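import Mathlib
import Groth.Agent.Lib.Helper8.ConstructibleNoeth

set_option autoImplicit false
universe u

namespace Groth.Agent.H8.Curve
open Topology

lemma two_le_height {D : Type*} [CommRing D] [IsDomain D] [IsNoetherianRing D] {a b : Ideal D}
    [a.IsPrime] [b.IsPrime] (h0 : ⊥ < a) (h1 : a < b) : (2 : ℕ∞) ≤ b.height := by
  have h1' : (⊥ : Ideal D).height < a.height :=
    Ideal.height_strict_mono_of_isPrime_of_isPrime h0
  have h2 : a.height < b.height := Ideal.height_strict_mono_of_isPrime_of_isPrime h1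
  have h3' : (0 : ℕ∞) < a.height := lt_of_le_of_lt (by simp) h1'
  have h3 : (1 : ℕ∞) ≤ a.height := ENat.one_le_iff_ne_zero.mpr h3'.ne'
  have h4 : a.height + 1 ≤ b.height := Order.add_one_le_of_lt h2
  calc (2 : ℕ∞) = 1 + 1 := by norm_num
    _ ≤ a.height + 1 := by gcongr
    _ ≤ b.height := h4

/-- In a Noetherian domain, if some prime lies strictly between `0` and the prime `m`, then for
every `h ≠ 0` there is such a prime avoiding `h`. -/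
theorem exists_prime_between_not_mem (D : Type*) [CommRing D] [IsDomain D] [IsNoetherianRing D]
    (m : Ideal D) [m.IsPrime] (h : D) (hh : h ≠ 0)
    (hex : ∃ r : Ideal D, r.IsPrime ∧ ⊥ < r ∧ r < m) :
    ∃ s : Ideal D, s.IsPrime ∧ ⊥ < s ∧ s < m ∧ h ∉ s := by
  classical
  by_contra hcon
  push_neg at hcon
  obtain ⟨r, hr, hr0, hrm⟩ := hex
  have hm2 : (2 : ℕ∞) ≤ m.height := two_le_height hr0 hrm
  have hfin : (Ideal.span {h}).minimalPrimes.Finite :=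
    Ideal.finite_minimalPrimes_of_isNoetherianRing D _
  have hMne : ∀ 𝔭 ∈ (Ideal.span {h}).minimalPrimes, ¬ m ≤ 𝔭 := by
    intro 𝔭 h𝔭 hle
    have h1 : 𝔭.height ≤ 1 :=
      Ideal.height_le_one_of_isPrincipal_of_mem_minimalPrimes (Ideal.span {h}) 𝔭 h𝔭
    have h2 := Ideal.height_mono hle
    have : (2 : ℕ∞) ≤ 1 := hm2.trans (h2.trans h1)
    exact absurd this (by norm_num)
  have hnot : ¬ ((m : Set D) ⊆ ⋃ 𝔭 ∈ (hfin.toFinset : Set (Ideal D)), (𝔭 : Set D)) := by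
    intro hsub
    have hprime : ∀ Q ∈ hfin.toFinset, Q ≠ (⊥ : Ideal D) → Q ≠ (⊥ : Ideal D) →
        Ideal.IsPrime ((fun Q : Ideal D => Q) Q) := by
      intro Q hQ _ _
      rw [Set.Finite.mem_toFinset] at hQ
      exact hQ.1.1
    obtain ⟨𝔭, h𝔭, hle⟩ :=
      (Ideal.subset_union_prime (f := fun Q : Ideal D => Q) ⊥ ⊥ hprime).mp hsub
    rw [Set.Finite.mem_toFinset] at h𝔭
    exact hMne 𝔭 h𝔭 hle
  obtain ⟨a, ham, ha⟩ := Set.not_subset.mp hnot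
  have ha' : ∀ 𝔭 ∈ (Ideal.span {h}).minimalPrimes, a ∉ 𝔭 := by
    intro 𝔭 h𝔭 ha𝔭
    apply ha
    simp only [Set.mem_iUnion]
    exact ⟨𝔭, by simpa using h𝔭, ha𝔭⟩
  have hhr : h ∈ r := hcon r hr hr0 hrm
  obtain ⟨𝔭₀, h𝔭₀, -⟩ := Ideal.exists_minimalPrimes_le
    (show Ideal.span {h} ≤ r from (Ideal.span_singleton_le_iff_mem _).mpr hhr)
  have ha0 : a ≠ 0 := by
    intro h0
    exact ha' 𝔭₀ h𝔭₀ (h0 ▸ 𝔭₀.zero_mem)
  obtain ⟨𝔰, h𝔰, h𝔰m⟩ := Ideal.exists_minimalPrimes_le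
    (show Ideal.span {a} ≤ m from (Ideal.span_singleton_le_iff_mem _).mpr ham)
  haveI := h𝔰.1.1
  have h𝔰1 : 𝔰.height ≤ 1 :=
    Ideal.height_le_one_of_isPrincipal_of_mem_minimalPrimes (Ideal.span {a}) 𝔰 h𝔰
  have ha𝔰 : a ∈ 𝔰 := h𝔰.1.2 (Ideal.mem_span_singleton_self a)
  have h𝔰0 : ⊥ < 𝔰 := bot_lt_iff_ne_bot.mpr (fun h => ha0 (by rw [h] at ha𝔰; simpa using ha𝔰))
  have h𝔰lt : 𝔰 < m := lt_of_le_of_ne h𝔰m (fun h => by
    rw [h] at h𝔰1
    exact absurd (hm2.trans h𝔰1) (by norm_num))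
  have hh𝔰 : h ∈ 𝔰 := hcon 𝔰 h𝔰.1.1 h𝔰0 h𝔰lt
  obtain ⟨𝔭, h𝔭, h𝔭𝔰⟩ := Ideal.exists_minimalPrimes_le
    (show Ideal.span {h} ≤ 𝔰 from (Ideal.span_singleton_le_iff_mem _).mpr hh𝔰)
  haveI := h𝔭.1.1
  have h𝔭0 : ⊥ < 𝔭 := bot_lt_iff_ne_bot.mpr (fun h0 => hh (by
    have : h ∈ 𝔭 := h𝔭.1.2 (Ideal.mem_span_singleton_self h)
    rw [h0] at this
    simpa using this))
  have heq : 𝔭 = 𝔰 := by
    by_contra hne
    have hlt : 𝔭 < 𝔰 := lt_of_le_of_ne h𝔭𝔰 hne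
    have := two_le_height h𝔭0 hlt
    exact absurd (this.trans h𝔰1) (by norm_num)
  exact ha' 𝔭 h𝔭 (heq ▸ ha𝔰)

/-- In a Noetherian ring, given primes `𝔭 < m` and `h ∉ 𝔭`, there is a prime `q` with
`𝔭 ≤ q < m`, `h ∉ q`, and no prime strictly between `q` and `m`. -/
theorem exists_prime_covBy_not_mem (R : Type*) [CommRing R] [IsNoetherianRing R]
    (𝔭 m : Ideal R) [𝔭.IsPrime] [m.IsPrime] (hlt : 𝔭 < m) (h : R) (hh : h ∉ 𝔭) :
    ∃ q : Ideal R, q.IsPrime ∧ 𝔭 ≤ q ∧ q < m ∧ h ∉ q ∧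
      ∀ r : Ideal R, r.IsPrime → q < r → r < m → False := by
  classical
  let 𝒮 : Set (Ideal R) := {q | q.IsPrime ∧ 𝔭 ≤ q ∧ q < m ∧ h ∉ q}
  have hne : 𝒮.Nonempty := ⟨𝔭, inferInstance, le_rfl, hlt, hh⟩
  obtain ⟨q, ⟨hq, h𝔭q, hqm, hhq⟩, hmax⟩ :=
    (set_has_maximal_iff_noetherian (R := R) (M := R)).mpr inferInstance 𝒮 hne
  refine ⟨q, hq, h𝔭q, hqm, hhq, fun r hr hqr hrm => ?_⟩
  haveI := hq
  have hπ : Function.Surjective (Ideal.Quotient.mk q) := Ideal.Quotient.mk_surjective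
  haveI : (m.map (Ideal.Quotient.mk q)).IsPrime :=
    Ideal.map_isPrime_of_surjective hπ (by rw [Ideal.mk_ker]; exact hqm.le)
  haveI : (r.map (Ideal.Quotient.mk q)).IsPrime :=
    Ideal.map_isPrime_of_surjective hπ (by rw [Ideal.mk_ker]; exact hqr.le)
  have hcm : ∀ J : Ideal R, q ≤ J →
      (J.map (Ideal.Quotient.mk q)).comap (Ideal.Quotient.mk q) = J := fun J hJ => by
    rw [Ideal.comap_map_of_surjective _ hπ, ← RingHom.ker_eq_comap_bot, Ideal.mk_ker,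
      sup_eq_left.mpr hJ]
  have h1 : ⊥ < r.map (Ideal.Quotient.mk q) := by
    rw [bot_lt_iff_ne_bot]
    intro h0
    have := hcm r hqr.le
    rw [h0, ← RingHom.ker_eq_comap_bot, Ideal.mk_ker] at this
    exact hqr.ne this
  have h2 : r.map (Ideal.Quotient.mk q) < m.map (Ideal.Quotient.mk q) := by
    refine lt_of_le_of_ne (Ideal.map_mono hrm.le) (fun heq => ?_)
    have := congrArg (Ideal.comap (Ideal.Quotient.mk q)) heq
    rw [hcm r hqr.le, hcm m hqm.le] at this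
    exact hrm.ne this
  have hh' : Ideal.Quotient.mk q h ≠ 0 := by rwa [Ne, Ideal.Quotient.eq_zero_iff_mem]
  obtain ⟨s, hs, hs0, hsm, hhs⟩ := exists_prime_between_not_mem (R ⧸ q)
    (m.map (Ideal.Quotient.mk q)) (Ideal.Quotient.mk q h) hh'
    ⟨r.map (Ideal.Quotient.mk q), inferInstance, h1, h2⟩
  have hs' : (s.comap (Ideal.Quotient.mk q)).IsPrime := Ideal.comap_isPrime _ s
  have hqs : q < s.comap (Ideal.Quotient.mk q) := by
    refine lt_of_le_of_ne ?_ ?_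
    · intro x hx
      rw [Ideal.mem_comap, Ideal.Quotient.eq_zero_iff_mem.mpr hx]
      exact s.zero_mem
    · intro heq
      apply hs0.ne'
      rw [eq_bot_iff]
      intro z hz
      obtain ⟨x, rfl⟩ := hπ z
      have : x ∈ s.comap (Ideal.Quotient.mk q) := hz
      rw [← heq] at this
      rw [Ideal.mem_bot, Ideal.Quotient.eq_zero_iff_mem]
      exact this
  have hsm' : s.comap (Ideal.Quotient.mk q) < m := by
    have : s.comap (Ideal.Quotient.mk q) <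
        (m.map (Ideal.Quotient.mk q)).comap (Ideal.Quotient.mk q) := by
      refine lt_of_le_of_ne (Ideal.comap_mono hsm.le) (fun heq => ?_)
      apply hsm.ne
      rw [← Ideal.map_comap_of_surjective _ hπ s, heq, Ideal.map_comap_of_surjective _ hπ]
    rwa [hcm m hqm.le] at this
  exact hmax (s.comap (Ideal.Quotient.mk q))
    ⟨hs', h𝔭q.trans hqs.le, hsm', fun hmem => hhs hmem⟩ hqs

/-- Chevalley: an injective finite type map of domains (Noetherian source) has image containing a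
nonempty basic open. -/
theorem exists_basicOpen_subset_range_comap {R B : Type u} [CommRing R] [IsDomain R]
    [IsNoetherianRing R] [CommRing B] [IsDomain B] (φ : R →+* B) (hφ : φ.FiniteType)
    (hinj : Function.Injective φ) :
    ∃ h : R, h ≠ 0 ∧ ∀ q : PrimeSpectrum R, h ∉ q.asIdeal →
      q ∈ Set.range (PrimeSpectrum.comap φ) := by
  have hfp : φ.FinitePresentation := RingHom.FinitePresentation.of_finiteType.mp hφ
  have hE : IsConstructible (Set.range (PrimeSpectrum.comap φ)) :=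
    PrimeSpectrum.isConstructible_range_comap hfp
  let g₀ : PrimeSpectrum R := ⟨⊥, Ideal.isPrime_bot⟩
  have hg₀E : g₀ ∈ Set.range (PrimeSpectrum.comap φ) := by
    refine ⟨⟨⊥, Ideal.isPrime_bot⟩, ?_⟩
    apply PrimeSpectrum.ext
    change Ideal.comap φ ⊥ = ⊥
    rw [← RingHom.ker_eq_comap_bot]
    exact (RingHom.injective_iff_ker_eq_bot φ).mp hinj
  have hgen : ∀ U : Set (PrimeSpectrum R), IsOpen U → U.Nonempty → g₀ ∈ U := by
    intro U hU ⟨z, hz⟩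
    have : g₀ ⤳ z := by
      rw [← PrimeSpectrum.le_iff_specializes]
      change (⊥ : Ideal R) ≤ z.asIdeal
      exact bot_le
    exact this.mem_open hU hz
  have hirr : IsIrreducible (Set.univ : Set (PrimeSpectrum R)) :=
    (irreducibleSpace_def _).mp inferInstance
  rcases CNoeth.dichotomy hirr hE with ⟨U, hU, hne, hsub⟩ | ⟨U, hU, hne, hsub⟩
  · rw [Set.inter_univ] at hne hsub
    have hg₀U := hgen U hU hne
    obtain ⟨_, ⟨O, ⟨h, rfl⟩, rfl⟩, hg₀h, hhU⟩ :=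
      PrimeSpectrum.isBasis_basic_opens.exists_subset_of_mem_open hg₀U hU
    refine ⟨h, ?_, fun q hq => hsub (hhU ?_)⟩
    · intro h0
      apply hg₀h
      change h ∈ (⊥ : Ideal R)
      rw [h0]; exact Ideal.zero_mem _
    · exact hq
  · exfalso
    rw [Set.inter_univ] at hne hsub
    exact hsub (hgen U hU hne) hg₀E

/-- Relative version for a prime `P` of `B`. -/
theorem exists_not_mem_forall_exists_prime_over {R B : Type u} [CommRing R]
    [IsNoetherianRing R] [CommRing B] (φ : R →+* B) (hφ : φ.FiniteType)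
    (P : Ideal B) [P.IsPrime] :
    ∃ h : R, h ∉ P.comap φ ∧ ∀ q : Ideal R, q.IsPrime → P.comap φ ≤ q → h ∉ q →
      ∃ Q : Ideal B, Q.IsPrime ∧ P ≤ Q ∧ Q.comap φ = q := by
  haveI : (P.comap φ).IsPrime := Ideal.comap_isPrime φ P
  let φ₁ : R ⧸ P.comap φ →+* B ⧸ P := Ideal.quotientMap P φ le_rfl
  have hφ₁inj : Function.Injective φ₁ := Ideal.quotientMap_injective
  have hcomp : φ₁.comp (Ideal.Quotient.mk (P.comap φ)) = (Ideal.Quotient.mk P).comp φ :=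
    Ideal.quotientMap_comp_mk le_rfl
  have hφ₁ft : φ₁.FiniteType := by
    refine RingHom.FiniteType.of_comp_finiteType (f := Ideal.Quotient.mk (P.comap φ)) ?_
    rw [hcomp]
    exact (RingHom.FiniteType.of_surjective _ Ideal.Quotient.mk_surjective).comp hφ
  obtain ⟨h₁, hh₁, hmem⟩ := exists_basicOpen_subset_range_comap φ₁ hφ₁ft hφ₁inj
  obtain ⟨h, rfl⟩ := Ideal.Quotient.mk_surjective h₁
  refine ⟨h, fun hh => hh₁ (Ideal.Quotient.eq_zero_iff_mem.mpr hh), fun q hq hPq hhq => ?_⟩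
  have hπ : Function.Surjective (Ideal.Quotient.mk (P.comap φ)) := Ideal.Quotient.mk_surjective
  haveI : (q.map (Ideal.Quotient.mk (P.comap φ))).IsPrime :=
    Ideal.map_isPrime_of_surjective hπ (by rw [Ideal.mk_ker]; exact hPq)
  have hcm : (q.map (Ideal.Quotient.mk (P.comap φ))).comap (Ideal.Quotient.mk (P.comap φ)) = q := by
    rw [Ideal.comap_map_of_surjective _ hπ, ← RingHom.ker_eq_comap_bot, Ideal.mk_ker,
      sup_eq_left.mpr hPq]
  have hnot : Ideal.Quotient.mk (P.comap φ) h ∉ q.map (Ideal.Quotient.mk (P.comap φ)) := by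
    intro hm
    apply hhq
    rw [← hcm]
    exact hm
  obtain ⟨Q₁, hQ₁⟩ := hmem ⟨q.map (Ideal.Quotient.mk (P.comap φ)), inferInstance⟩ hnot
  have hQ₁' : Q₁.asIdeal.comap φ₁ = q.map (Ideal.Quotient.mk (P.comap φ)) :=
    congrArg PrimeSpectrum.asIdeal hQ₁
  refine ⟨Q₁.asIdeal.comap (Ideal.Quotient.mk P), Ideal.comap_isPrime _ _, ?_, ?_⟩
  · intro x hx
    rw [Ideal.mem_comap, Ideal.Quotient.eq_zero_iff_mem.mpr hx]
    exact Ideal.zero_mem _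
  · rw [Ideal.comap_comap, ← hcomp, ← Ideal.comap_comap, hQ₁', hcm]

/-- In a Noetherian domain with a height-one-like maximal ideal `𝔫` (no nonzero prime strictly
below) and `h₀ ≠ 0`, there is `h' ∉ 𝔫` such that `𝔫` is the only prime containing `h₀` but not
`h'`. -/
theorem exists_isolating_element (D : Type*) [CommRing D] [IsDomain D] [IsNoetherianRing D]
    (𝔫 : Ideal D) [𝔫.IsMaximal] (hcov : ∀ r : Ideal D, r.IsPrime → r ≠ ⊥ → r ≤ 𝔫 → r = 𝔫)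
    (h₀ : D) (hh₀ : h₀ ≠ 0) :
    ∃ h' : D, h' ∉ 𝔫 ∧ ∀ r : Ideal D, r.IsPrime → h₀ ∈ r → h' ∉ r → r = 𝔫 := by
  classical
  have hfin : (Ideal.span {h₀}).minimalPrimes.Finite :=
    Ideal.finite_minimalPrimes_of_isNoetherianRing D _
  have hch : ∀ 𝔭 : Ideal D, ∃ e : D, (𝔭 ∈ (Ideal.span {h₀}).minimalPrimes → ¬ 𝔭 ≤ 𝔫 →
      e ∈ 𝔭 ∧ e ∉ 𝔫) := by
    intro 𝔭
    by_cases h : 𝔭 ∈ (Ideal.span {h₀}).minimalPrimes ∧ ¬ 𝔭 ≤ 𝔫
    · obtain ⟨e, he𝔭, he𝔫⟩ := SetLike.not_le_iff_exists.mp h.2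
      exact ⟨e, fun _ _ => ⟨he𝔭, he𝔫⟩⟩
    · exact ⟨0, fun h1 h2 => absurd ⟨h1, h2⟩ h⟩
  choose e he using hch
  let T := hfin.toFinset.filter (fun 𝔭 => ¬ 𝔭 ≤ 𝔫)
  refine ⟨∏ 𝔭 ∈ T, e 𝔭, ?_, ?_⟩
  · intro hmem
    obtain ⟨𝔭, h𝔭T, h𝔭⟩ := (Ideal.IsPrime.prod_mem_iff (p := 𝔫)).mp hmem
    rw [Finset.mem_filter, Set.Finite.mem_toFinset] at h𝔭T
    exact (he 𝔭 h𝔭T.1 h𝔭T.2).2 h𝔭
  · intro r hr hh₀r hh'r
    obtain ⟨𝔭, h𝔭, h𝔭r⟩ := Ideal.exists_minimalPrimes_le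
      (show Ideal.span {h₀} ≤ r from (Ideal.span_singleton_le_iff_mem _).mpr hh₀r)
    have h𝔭𝔫 : 𝔭 ≤ 𝔫 := by
      by_contra hnot
      apply hh'r
      have h𝔭T : 𝔭 ∈ T := by
        rw [Finset.mem_filter, Set.Finite.mem_toFinset]
        exact ⟨h𝔭, hnot⟩
      have hdvd : e 𝔭 ∣ ∏ 𝔭 ∈ T, e 𝔭 := Finset.dvd_prod_of_mem e h𝔭T
      exact Ideal.mem_of_dvd _ hdvd (h𝔭r (he 𝔭 h𝔭 hnot).1)
    have h𝔭0 : 𝔭 ≠ ⊥ := by
      intro h0
      apply hh₀
      have : h₀ ∈ 𝔭 := h𝔭.1.2 (Ideal.mem_span_singleton_self h₀)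
      rw [h0] at this
      simpa using this
    have h𝔭eq : 𝔭 = 𝔫 := hcov 𝔭 h𝔭.1.1 h𝔭0 h𝔭𝔫
    have h𝔫r : 𝔫 ≤ r := h𝔭eq ▸ h𝔭r
    exact (Ideal.IsMaximal.eq_of_le inferInstance hr.ne_top h𝔫r).symm

end Groth.Agent.H8.Curve
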