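import Mathlib
import Groth.Prelude.Def_Found
import Groth.Agent.Lib.Helper8.Curve.A1
import Groth.Agent.Lib.Helper8.Japanese.NormFin3
import Groth.Agent.Lib.Helper8.Japanese.NagFT17

set_option autoImplicit false
universe u

namespace Groth.Agent.H8.Curve
open TensorProduct

/-- A finite extension field of the residue field at `𝔮` receiving `B₀` and killing `P`, given a
prime `P₂ ⊇ P` over `𝔮`. -/
theorem exists_finite_field_over (R₀ B₀ : Type u) [CommRing R₀] [CommRing B₀] [Algebra R₀ B₀]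
    [Algebra.FiniteType R₀ B₀]
    (P : Ideal B₀) [P.IsPrime] (𝔮 : Ideal R₀) [𝔮.IsPrime] (P₂ : Ideal B₀) [P₂.IsPrime]
    (hPP₂ : P ≤ P₂) (hP₂ : P₂.comap (algebraMap R₀ B₀) = 𝔮) :
    ∃ (L : Type u) (_ : Field L) (_ : Algebra 𝔮.ResidueField L) (_ : Algebra R₀ L)
      (_ : IsScalarTower R₀ 𝔮.ResidueField L) (_ : Module.Finite 𝔮.ResidueField L)
      (ψ : B₀ →+* L), ψ.comp (algebraMap R₀ B₀) = algebraMap R₀ L ∧ P ≤ RingHom.ker ψ := by
  classical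
  haveI : Algebra.FiniteType R₀ (B₀ ⧸ P) :=
    Algebra.FiniteType.of_surjective (Ideal.Quotient.mkₐ R₀ P) (Ideal.Quotient.mkₐ_surjective R₀ P)
  have hP₂' : (P₂.map (Ideal.Quotient.mk P)).IsPrime :=
    Ideal.map_isPrime_of_surjective Ideal.Quotient.mk_surjective
      (by rw [Ideal.mk_ker]; exact hPP₂)
  have hcomap : (P₂.map (Ideal.Quotient.mk P)).comap (algebraMap R₀ (B₀ ⧸ P)) = 𝔮 := by
    have : algebraMap R₀ (B₀ ⧸ P) = (Ideal.Quotient.mk P).comp (algebraMap R₀ B₀) := rfl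
    rw [this, ← Ideal.comap_comap, Ideal.comap_map_of_surjective _ Ideal.Quotient.mk_surjective,
      ← RingHom.ker_eq_comap_bot, Ideal.mk_ker, sup_eq_left.mpr hPP₂, hP₂]
  let z : PrimeSpectrum (𝔮.Fiber (B₀ ⧸ P)) :=
    PrimeSpectrum.preimageEquivFiber R₀ (B₀ ⧸ P) ⟨𝔮, inferInstance⟩
      ⟨⟨_, hP₂'⟩, PrimeSpectrum.ext hcomap⟩
  haveI : Nontrivial (𝔮.Fiber (B₀ ⧸ P)) :=
    ⟨⟨0, 1, fun h01 => z.isPrime.one_notMem (h01 ▸ z.asIdeal.zero_mem)⟩⟩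
  obtain ⟨M, hM⟩ := Ideal.exists_maximal (𝔮.Fiber (B₀ ⧸ P))
  haveI := hM
  letI : Field (𝔮.Fiber (B₀ ⧸ P) ⧸ M) := Ideal.Quotient.field M
  haveI : Algebra.FiniteType 𝔮.ResidueField (𝔮.Fiber (B₀ ⧸ P)) := inferInstance
  haveI : Algebra.FiniteType 𝔮.ResidueField (𝔮.Fiber (B₀ ⧸ P) ⧸ M) :=
    Algebra.FiniteType.of_surjective (Ideal.Quotient.mkₐ _ M) (Ideal.Quotient.mkₐ_surjective _ M)
  haveI : Module.Finite 𝔮.ResidueField (𝔮.Fiber (B₀ ⧸ P) ⧸ M) :=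
    finite_of_finite_type_of_isJacobsonRing _ _
  refine ⟨𝔮.Fiber (B₀ ⧸ P) ⧸ M, inferInstance, inferInstance, inferInstance, inferInstance,
    inferInstance,
    (Ideal.Quotient.mk M).comp
      ((Algebra.TensorProduct.includeRight :
        (B₀ ⧸ P) →ₐ[R₀] 𝔮.Fiber (B₀ ⧸ P)).toRingHom.comp (Ideal.Quotient.mk P)), ?_, ?_⟩
  · ext r
    simp only [RingHom.coe_comp, Function.comp_apply, AlgHom.toRingHom_eq_coe, RingHom.coe_coe]
    have h1 : Ideal.Quotient.mk P (algebraMap R₀ B₀ r) = algebraMap R₀ (B₀ ⧸ P) r := rfl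
    rw [h1, AlgHom.commutes]
    rfl
  · intro b hb
    rw [RingHom.mem_ker]
    simp only [RingHom.coe_comp, Function.comp_apply]
    rw [Ideal.Quotient.eq_zero_iff_mem.mpr hb, map_zero, map_zero]

/-- The normalization of `R₀ ⧸ 𝔮` in a finite extension `L` of `κ(𝔮)`, with a maximal ideal over `m₀`
of "height one". -/
theorem exists_normal_model (R₀ : Type u) [CommRing R₀] (hR₀ : CAlg.IsNagata R₀) (𝔮 m₀ : Ideal R₀)
    [𝔮.IsPrime] [m₀.IsMaximal] (hlt : 𝔮 < m₀)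
    (hcov : ∀ r : Ideal R₀, r.IsPrime → 𝔮 < r → r < m₀ → False)
    (L : Type u) [Field L] [Algebra 𝔮.ResidueField L] [Algebra R₀ L]
    [IsScalarTower R₀ 𝔮.ResidueField L] [Module.Finite 𝔮.ResidueField L] :
    ∃ (D : Type u) (_ : CommRing D) (_ : IsDomain D) (_ : Algebra R₀ D) (_ : Algebra D L)
      (_ : IsScalarTower R₀ D L), IsIntegrallyClosed D ∧ Algebra.FiniteType R₀ D ∧
      IsFractionRing D L ∧ ∃ 𝔫 : Ideal D, 𝔫.IsMaximal ∧ 𝔫.comap (algebraMap R₀ D) = m₀ ∧ 𝔫 ≠ ⊥ ∧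
        (∀ r : Ideal D, r.IsPrime → r ≠ ⊥ → r ≤ 𝔫 → r = 𝔫) := by
  classical
  haveI := hR₀.1
  letI : Algebra (R₀ ⧸ 𝔮) L :=
    ((algebraMap 𝔮.ResidueField L).comp (algebraMap (R₀ ⧸ 𝔮) 𝔮.ResidueField)).toAlgebra
  haveI : IsScalarTower (R₀ ⧸ 𝔮) 𝔮.ResidueField L := IsScalarTower.of_algebraMap_eq (fun _ => rfl)
  haveI : IsScalarTower R₀ (R₀ ⧸ 𝔮) L := IsScalarTower.of_algebraMap_eq (fun r => by
    rw [IsScalarTower.algebraMap_apply R₀ 𝔮.ResidueField L,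
      IsScalarTower.algebraMap_apply R₀ (R₀ ⧸ 𝔮) 𝔮.ResidueField]
    rfl)
  have hinj : Function.Injective (algebraMap (R₀ ⧸ 𝔮) L) := by
    have : algebraMap (R₀ ⧸ 𝔮) L =
        (algebraMap 𝔮.ResidueField L).comp (algebraMap (R₀ ⧸ 𝔮) 𝔮.ResidueField) := rfl
    rw [this]
    exact (algebraMap 𝔮.ResidueField L).injective.comp
      (IsFractionRing.injective (R₀ ⧸ 𝔮) 𝔮.ResidueField)
  haveI : FaithfulSMul (R₀ ⧸ 𝔮) L := (faithfulSMul_iff_algebraMap_injective _ _).mpr hinj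
  haveI : IsIntegrallyClosed (integralClosure (R₀ ⧸ 𝔮) L) :=
    integralClosure.isIntegrallyClosedOfFiniteExtension 𝔮.ResidueField
  haveI : IsFractionRing (integralClosure (R₀ ⧸ 𝔮) L) L :=
    integralClosure.isFractionRing_of_finite_extension 𝔮.ResidueField L
  have hfin : Module.Finite (R₀ ⧸ 𝔮) (integralClosure (R₀ ⧸ 𝔮) L) :=
    Jap.NormFin.finite_integralClosure_field_of_isN2 (R₀ ⧸ 𝔮) (hR₀.2 𝔮) 𝔮.ResidueField L
  haveI : IsScalarTower R₀ (integralClosure (R₀ ⧸ 𝔮) L) L :=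
    IsScalarTower.of_algebraMap_eq (fun _ => rfl)
  haveI : Algebra.FiniteType R₀ (R₀ ⧸ 𝔮) :=
    Algebra.FiniteType.of_surjective (Ideal.Quotient.mkₐ R₀ 𝔮) (Ideal.Quotient.mkₐ_surjective R₀ 𝔮)
  have hft : Algebra.FiniteType R₀ (integralClosure (R₀ ⧸ 𝔮) L) :=
    Algebra.FiniteType.trans (S := R₀ ⧸ 𝔮) inferInstance inferInstance
  have hπ : Function.Surjective (Ideal.Quotient.mk 𝔮) := Ideal.Quotient.mk_surjective
  have hcm : ∀ J : Ideal R₀, 𝔮 ≤ J →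
      (J.map (Ideal.Quotient.mk 𝔮)).comap (Ideal.Quotient.mk 𝔮) = J := fun J hJ => by
    rw [Ideal.comap_map_of_surjective _ hπ, ← RingHom.ker_eq_comap_bot, Ideal.mk_ker,
      sup_eq_left.mpr hJ]
  have hmmax : (m₀.map (Ideal.Quotient.mk 𝔮)).IsMaximal := by
    rcases Ideal.map_eq_top_or_isMaximal_of_surjective _ hπ (inferInstance : m₀.IsMaximal) with h | h
    · exfalso
      have := hcm m₀ hlt.le
      rw [h, Ideal.comap_top] at this
      exact (Ideal.IsMaximal.ne_top inferInstance) this.symm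
    · exact h
  have hinjD : Function.Injective (algebraMap (R₀ ⧸ 𝔮) (integralClosure (R₀ ⧸ 𝔮) L)) := by
    intro a b hab
    apply hinj
    have := congrArg (algebraMap (integralClosure (R₀ ⧸ 𝔮) L) L) hab
    simpa [← IsScalarTower.algebraMap_apply] using this
  obtain ⟨𝔫, h𝔫max, h𝔫⟩ := Ideal.exists_ideal_over_maximal_of_isIntegral
    (S := integralClosure (R₀ ⧸ 𝔮) L) (m₀.map (Ideal.Quotient.mk 𝔮))
    (by rw [(RingHom.injective_iff_ker_eq_bot _).mp hinjD]; exact bot_le)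
  have halg : algebraMap R₀ (integralClosure (R₀ ⧸ 𝔮) L) =
      (algebraMap (R₀ ⧸ 𝔮) (integralClosure (R₀ ⧸ 𝔮) L)).comp (Ideal.Quotient.mk 𝔮) :=
    IsScalarTower.algebraMap_eq R₀ (R₀ ⧸ 𝔮) (integralClosure (R₀ ⧸ 𝔮) L)
  have hmbot : m₀.map (Ideal.Quotient.mk 𝔮) ≠ ⊥ := by
    intro h0
    have := hcm m₀ hlt.le
    rw [h0, ← RingHom.ker_eq_comap_bot, Ideal.mk_ker] at this
    exact hlt.ne this
  refine ⟨integralClosure (R₀ ⧸ 𝔮) L, inferInstance, inferInstance, inferInstance, inferInstance,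
    inferInstance, inferInstance, hft, inferInstance, 𝔫, h𝔫max, ?_, ?_, ?_⟩
  · rw [halg, ← Ideal.comap_comap, h𝔫, hcm m₀ hlt.le]
  · intro h0
    apply hmbot
    rw [← h𝔫, h0, ← RingHom.ker_eq_comap_bot, (RingHom.injective_iff_ker_eq_bot _).mp hinjD]
  · intro r hr hr0 hr𝔫
    by_contra hne
    have hrlt : r < 𝔫 := lt_of_le_of_ne hr𝔫 hne
    obtain ⟨x, hx𝔫, hxr⟩ := Set.exists_of_ssubset hrlt
    have h1 : r.comap (algebraMap (R₀ ⧸ 𝔮) (integralClosure (R₀ ⧸ 𝔮) L)) <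
        𝔫.comap (algebraMap (R₀ ⧸ 𝔮) (integralClosure (R₀ ⧸ 𝔮) L)) :=
      Ideal.comap_lt_comap_of_integral_mem_sdiff hr𝔫 ⟨hx𝔫, hxr⟩
        (Algebra.IsIntegral.isIntegral x)
    rw [h𝔫] at h1
    have h2 : r.comap (algebraMap (R₀ ⧸ 𝔮) (integralClosure (R₀ ⧸ 𝔮) L)) ≠ ⊥ := fun h =>
      hr0 (Ideal.eq_bot_of_comap_eq_bot h)
    set r₀ := r.comap (algebraMap (R₀ ⧸ 𝔮) (integralClosure (R₀ ⧸ 𝔮) L)) with hr₀
    haveI : r₀.IsPrime := Ideal.comap_isPrime _ r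
    refine hcov (r₀.comap (Ideal.Quotient.mk 𝔮)) (Ideal.comap_isPrime _ _) ?_ ?_
    · refine lt_of_le_of_ne ?_ ?_
      · intro x hx
        rw [Ideal.mem_comap, Ideal.Quotient.eq_zero_iff_mem.mpr hx]
        exact r₀.zero_mem
      · intro heq
        apply h2
        rw [← Ideal.map_comap_of_surjective _ hπ r₀, ← heq, Ideal.map_quotient_self]
    · have : r₀.comap (Ideal.Quotient.mk 𝔮) <
          (m₀.map (Ideal.Quotient.mk 𝔮)).comap (Ideal.Quotient.mk 𝔮) := by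
        refine lt_of_le_of_ne (Ideal.comap_mono h1.le) (fun heq => ?_)
        apply h1.ne
        rw [← Ideal.map_comap_of_surjective _ hπ r₀, heq, Ideal.map_comap_of_surjective _ hπ]
      rwa [hcm m₀ hlt.le] at this

end Groth.Agent.H8.Curve
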