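import Mathlib
import Groth.Prelude.Def_Found
import Groth.Agent.Lib.Helper8.Curve.A2

set_option autoImplicit false
universe u

namespace Groth.Agent.H8.Curve

theorem exists_chi {R₀ B₀ D L : Type u} [CommRing R₀] [CommRing B₀] [Algebra R₀ B₀]
    [CommRing D] [IsDomain D] [Field L]
    [Algebra R₀ D] [Algebra D L] [IsFractionRing D L] [Algebra R₀ L] [IsScalarTower R₀ D L]
    (ψ : B₀ →+* L) (hψ : ψ.comp (algebraMap R₀ B₀) = algebraMap R₀ L)
    (h' h₀ : D) (hh'0 : h' ≠ 0) (hh₀0 : h₀ ≠ 0) (s : Set B₀) (hs : Algebra.adjoin R₀ s = ⊤)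
    (hden : ∀ x ∈ s, ∃ y : D, ψ x * algebraMap D L h₀ = algebraMap D L y) :
    ∃ (χ : B₀ →+* Localization.Away (algebraMap D (Localization.Away h') h₀)),
      χ.comp (algebraMap R₀ B₀) =
        (algebraMap (Localization.Away h')
          (Localization.Away (algebraMap D (Localization.Away h') h₀))).comp
          ((algebraMap D (Localization.Away h')).comp (algebraMap R₀ D)) ∧
      RingHom.ker ψ ≤ RingHom.ker χ := by
  classical
  have hinjDL : Function.Injective (algebraMap D L) := IsFractionRing.injective D L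
  have hu₁ : IsUnit (algebraMap D L h') :=
    IsUnit.mk0 _ ((map_ne_zero_iff _ hinjDL).mpr hh'0)
  have hM₁ : Submonoid.powers h' ≤ nonZeroDivisors D :=
    powers_le_nonZeroDivisors_of_noZeroDivisors hh'0
  haveI : IsDomain (Localization.Away h') := IsLocalization.isDomain_localization hM₁
  letI alg₁ : Algebra (Localization.Away h') L :=
    (IsLocalization.Away.lift (S := Localization.Away h') h' hu₁).toAlgebra
  have hι₁ : ∀ x : D, algebraMap (Localization.Away h') L (algebraMap D (Localization.Away h') x) =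
      algebraMap D L x := fun x => IsLocalization.Away.lift_eq h' hu₁ x
  haveI : IsScalarTower D (Localization.Away h') L :=
    IsScalarTower.of_algebraMap_eq (fun x => (hι₁ x).symm)
  haveI : IsFractionRing (Localization.Away h') L :=
    IsFractionRing.isFractionRing_of_isDomain_of_isLocalization (Submonoid.powers h')
      (Localization.Away h') L
  have hinj₁ : Function.Injective (algebraMap (Localization.Away h') L) :=
    IsFractionRing.injective _ L
  obtain ⟨h₁, hh₁⟩ : ∃ h₁ : Localization.Away h', h₁ = algebraMap D (Localization.Away h') h₀ :=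
    ⟨_, rfl⟩
  rw [← hh₁]
  have hh₁0 : h₁ ≠ 0 := by
    rw [hh₁]
    exact (map_ne_zero_iff _ (IsLocalization.injective _ hM₁)).mpr hh₀0
  have hu₂ : IsUnit (algebraMap (Localization.Away h') L h₁) :=
    IsUnit.mk0 _ ((map_ne_zero_iff _ hinj₁).mpr hh₁0)
  have hM₂ : Submonoid.powers h₁ ≤ nonZeroDivisors (Localization.Away h') :=
    powers_le_nonZeroDivisors_of_noZeroDivisors hh₁0
  letI alg₂ : Algebra (Localization.Away h₁) L :=
    (IsLocalization.Away.lift (S := Localization.Away h₁) h₁ hu₂).toAlgebra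
  have hι : ∀ x : Localization.Away h',
      algebraMap (Localization.Away h₁) L (algebraMap (Localization.Away h') _ x) =
        algebraMap (Localization.Away h') L x :=
    fun x => IsLocalization.Away.lift_eq _ hu₂ x
  haveI : IsScalarTower (Localization.Away h') (Localization.Away h₁) L :=
    IsScalarTower.of_algebraMap_eq (fun x => (hι x).symm)
  haveI : IsFractionRing (Localization.Away h₁) L :=
    IsFractionRing.isFractionRing_of_isDomain_of_isLocalization (Submonoid.powers h₁) _ L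
  have hιinj : Function.Injective (algebraMap (Localization.Away h₁) L) :=
    IsFractionRing.injective _ L
  have hh₀L : algebraMap D L h₀ ≠ 0 := (map_ne_zero_iff _ hinjDL).mpr hh₀0
  have hh₁L : algebraMap (Localization.Away h') L h₁ = algebraMap D L h₀ := by
    rw [hh₁, hι₁]
  have hrange : ∀ b : B₀, ψ b ∈ (algebraMap (Localization.Away h₁) L).range := by
    intro b
    have hb : b ∈ Algebra.adjoin R₀ s := by rw [hs]; trivial
    induction hb using Algebra.adjoin_induction with
    | mem x hx =>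
      obtain ⟨y, hy⟩ := hden x hx
      refine ⟨IsLocalization.mk' _ (algebraMap D (Localization.Away h') y)
        (⟨h₁, Submonoid.mem_powers _⟩ : Submonoid.powers h₁), ?_⟩
      apply mul_right_cancel₀ hh₀L
      have hspec := IsLocalization.mk'_spec (Localization.Away h₁)
        (algebraMap D (Localization.Away h') y)
        (⟨h₁, Submonoid.mem_powers _⟩ : Submonoid.powers h₁)
      have h2 := congrArg (algebraMap (Localization.Away h₁) L) hspec
      rw [map_mul (algebraMap (Localization.Away h₁) L), hι, hι, hι₁, hh₁L] at h2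
      rw [h2, hy]
    | algebraMap r =>
      refine ⟨algebraMap (Localization.Away h') _
        (algebraMap D (Localization.Away h') (algebraMap R₀ D r)), ?_⟩
      rw [hι, hι₁, ← IsScalarTower.algebraMap_apply, ← hψ]
      rfl
    | add x y _ _ hx hy => rw [map_add ψ]; exact Subring.add_mem _ hx hy
    | mul x y _ _ hx hy => rw [map_mul ψ]; exact Subring.mul_mem _ hx hy
  let ι := algebraMap (Localization.Away h₁) L
  let eq := RingEquiv.ofBijective ι.rangeRestrict
    ⟨fun a b hab => hιinj (congrArg Subtype.val hab), ι.rangeRestrict_surjective⟩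
  let χ : B₀ →+* Localization.Away h₁ :=
    eq.symm.toRingHom.comp (ψ.codRestrict ι.range hrange)
  have hχ : ∀ b, ι (χ b) = ψ b := by
    intro b
    have := eq.apply_symm_apply (ψ.codRestrict ι.range hrange b)
    exact congrArg Subtype.val this
  refine ⟨χ, ?_, ?_⟩
  · refine RingHom.ext fun r => hιinj ?_
    rw [RingHom.comp_apply]
    change ι (χ _) = _
    rw [hχ]
    simp only [RingHom.comp_apply]
    rw [hι, hι₁, ← IsScalarTower.algebraMap_apply, ← hψ]
    rfl
  · intro b hb
    rw [RingHom.mem_ker] at hb ⊢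
    apply hιinj
    change ι (χ b) = _
    rw [hχ, hb, map_zero]

theorem exists_localization_data {R₀ B₀ D L : Type u} [CommRing R₀] [CommRing B₀] [Algebra R₀ B₀]
    [Algebra.FiniteType R₀ B₀] [CommRing D] [IsDomain D] [IsNoetherianRing D] [Field L]
    [Algebra R₀ D] [Algebra D L] [IsFractionRing D L] [Algebra R₀ L] [IsScalarTower R₀ D L]
    (𝔫 : Ideal D) [𝔫.IsMaximal] (h𝔫0 : 𝔫 ≠ ⊥)
    (hcov : ∀ r : Ideal D, r.IsPrime → r ≠ ⊥ → r ≤ 𝔫 → r = 𝔫)
    (ψ : B₀ →+* L) (hψ : ψ.comp (algebraMap R₀ B₀) = algebraMap R₀ L) :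
    ∃ (h' : D) (h₀ : D) (χ : B₀ →+* Localization.Away (algebraMap D (Localization.Away h') h₀)),
      h' ∉ 𝔫 ∧ h₀ ∈ 𝔫 ∧ h₀ ≠ 0 ∧ (∀ r : Ideal D, r.IsPrime → h₀ ∈ r → h' ∉ r → r = 𝔫) ∧
      χ.comp (algebraMap R₀ B₀) =
        (algebraMap (Localization.Away h')
          (Localization.Away (algebraMap D (Localization.Away h') h₀))).comp
          ((algebraMap D (Localization.Away h')).comp (algebraMap R₀ D)) ∧
      RingHom.ker ψ ≤ RingHom.ker χ := by
  classical
  obtain ⟨s, hs⟩ := (Algebra.FiniteType.out : (⊤ : Subalgebra R₀ B₀).FG)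
  have hden : ∀ b : B₀, ∃ d e : D, e ≠ 0 ∧ ψ b * algebraMap D L e = algebraMap D L d := by
    intro b
    obtain ⟨⟨d, e⟩, he⟩ := IsLocalization.surj (nonZeroDivisors D) (ψ b)
    exact ⟨d, e, nonZeroDivisors.ne_zero e.2, he⟩
  choose d e he0 hde using hden
  obtain ⟨n₀, hn₀𝔫, hn₀0⟩ := Submodule.exists_mem_ne_zero_of_ne_bot h𝔫0
  have hh₀0 : n₀ * ∏ b ∈ s, e b ≠ 0 :=
    mul_ne_zero hn₀0 (Finset.prod_ne_zero_iff.mpr fun b _ => he0 b)
  have hh₀𝔫 : n₀ * ∏ b ∈ s, e b ∈ 𝔫 := Ideal.mul_mem_right _ _ hn₀𝔫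
  obtain ⟨h', hh'𝔫, hiso⟩ := exists_isolating_element D 𝔫 hcov (n₀ * ∏ b ∈ s, e b) hh₀0
  have hh'0 : h' ≠ 0 := fun h => hh'𝔫 (h ▸ 𝔫.zero_mem)
  obtain ⟨χ, hχ1, hχ2⟩ := exists_chi ψ hψ h' (n₀ * ∏ b ∈ s, e b) hh'0 hh₀0 (s : Set B₀) hs
    (by
      intro x hx
      obtain ⟨c', hc'⟩ := Finset.dvd_prod_of_mem e (Finset.mem_coe.mp hx)
      refine ⟨d x * (n₀ * c'), ?_⟩
      have hc : n₀ * ∏ b ∈ s, e b = e x * (n₀ * c') := by rw [hc']; ring
      rw [hc, map_mul, map_mul (algebraMap D L) (d x), ← hde x]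
      ring)
  exact ⟨h', n₀ * ∏ b ∈ s, e b, χ, hh'𝔫, hh₀𝔫, hh₀0, hiso, hχ1, hχ2⟩

end Groth.Agent.H8.Curve
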