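import Mathlib
import Groth.Prelude.Def_Found
import Groth.Agent.Lib.Helper8.Curve.A3

set_option autoImplicit false
universe u

namespace Groth.Agent.H8.Curve

/-- The algebraic curve lemma. -/
theorem exists_curve_data (Λ R₀ B₀ : Type u) [CommRing Λ] [CommRing R₀] [CommRing B₀]
    (hΛ : CAlg.IsNagata Λ) [Algebra Λ R₀] [Algebra.FiniteType Λ R₀]
    [Algebra R₀ B₀] [Algebra.FiniteType R₀ B₀]
    (P : Ideal B₀) [P.IsPrime] (m₀ : Ideal R₀) [m₀.IsMaximal]
    (hlt : P.comap (algebraMap R₀ B₀) < m₀) :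
    ∃ (D : Type u) (_ : CommRing D) (_ : IsDomain D) (_ : IsIntegrallyClosed D)
      (_ : Algebra R₀ D) (_ : Algebra.FiniteType R₀ D)
      (𝔫 : Ideal D) (_ : 𝔫.IsMaximal) (h : D) (χ : B₀ →+* Localization.Away h),
      𝔫.comap (algebraMap R₀ D) = m₀ ∧ 𝔫.height = 1 ∧
      (∀ 𝔯 : Ideal D, 𝔯.IsPrime → (h ∈ 𝔯 ↔ 𝔯 = 𝔫)) ∧
      χ.comp (algebraMap R₀ B₀) = (algebraMap D (Localization.Away h)).comp (algebraMap R₀ D) ∧
      P ≤ RingHom.ker χ := by
  classical
  have hR₀ : CAlg.IsNagata R₀ := Jap.NagFT.isNagata_of_finiteType Λ R₀ hΛ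
  haveI := hR₀.1
  haveI : (P.comap (algebraMap R₀ B₀)).IsPrime := Ideal.comap_isPrime _ P
  obtain ⟨h, hh, hlift⟩ := exists_not_mem_forall_exists_prime_over (algebraMap R₀ B₀)
    (RingHom.finiteType_algebraMap.mpr inferInstance) P
  obtain ⟨𝔮, h𝔮, hP𝔮, h𝔮m, hh𝔮, hcov⟩ :=
    exists_prime_covBy_not_mem R₀ (P.comap (algebraMap R₀ B₀)) m₀ hlt h hh
  obtain ⟨P₂, hP₂, hPP₂, hP₂𝔮⟩ := hlift 𝔮 h𝔮 hP𝔮 hh𝔮
  haveI := h𝔮
  haveI := hP₂
  obtain ⟨L, _, _, _, _, _, ψ, hψ, hPψ⟩ := exists_finite_field_over R₀ B₀ P 𝔮 P₂ hPP₂ hP₂𝔮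
  obtain ⟨D, _, _, _, _, _, hD_ic, hD_ft, hD_fr, 𝔫, h𝔫max, h𝔫m, h𝔫0, hDcov⟩ :=
    exists_normal_model R₀ hR₀ 𝔮 m₀ h𝔮m hcov L
  haveI := hD_ic
  haveI := hD_ft
  haveI := hD_fr
  haveI := h𝔫max
  haveI : IsNoetherianRing D := Algebra.FiniteType.isNoetherianRing R₀ D
  obtain ⟨h', h₀, χ, hh'𝔫, hh₀𝔫, hh₀0, hiso, hχ, hker⟩ :=
    exists_localization_data 𝔫 h𝔫0 hDcov ψ hψ
  have hh'0 : h' ≠ 0 := fun h => hh'𝔫 (h ▸ 𝔫.zero_mem)
  have hM : Submonoid.powers h' ≤ nonZeroDivisors D :=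
    powers_le_nonZeroDivisors_of_noZeroDivisors hh'0
  haveI : IsDomain (Localization.Away h') := IsLocalization.isDomain_localization hM
  haveI : IsIntegrallyClosed (Localization.Away h') :=
    isIntegrallyClosed_of_isLocalization _ (Submonoid.powers h') hM
  haveI : Algebra.FiniteType D (Localization.Away h') :=
    IsLocalization.finiteType_of_monoid_fg (Submonoid.powers h') _
  haveI : Algebra.FiniteType R₀ (Localization.Away h') :=
    Algebra.FiniteType.trans (S := D) hD_ft inferInstance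
  have hdisj : Disjoint (Submonoid.powers h' : Set D) (𝔫 : Set D) := by
    rw [Set.disjoint_left]
    rintro _ ⟨n, rfl⟩ hmem
    exact hh'𝔫 (Ideal.IsPrime.mem_of_pow_mem inferInstance n hmem)
  have h𝔫prime : 𝔫.IsPrime := inferInstance
  have h𝔫₁prime : (𝔫.map (algebraMap D (Localization.Away h'))).IsPrime :=
    IsLocalization.isPrime_of_isPrime_disjoint (Submonoid.powers h') _ 𝔫 h𝔫prime hdisj
  have h𝔫₁comap : (𝔫.map (algebraMap D (Localization.Away h'))).comap
      (algebraMap D (Localization.Away h')) = 𝔫 :=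
    IsLocalization.under_map_of_isPrime_disjoint (Submonoid.powers h') _ h𝔫prime hdisj
  have hmapcomap : ∀ J : Ideal (Localization.Away h'),
      (J.comap (algebraMap D (Localization.Away h'))).map (algebraMap D (Localization.Away h')) = J :=
    fun J => IsLocalization.map_under (Submonoid.powers h') _ J
  have h𝔫₁max : (𝔫.map (algebraMap D (Localization.Away h'))).IsMaximal := by
    rw [Ideal.isMaximal_def]
    refine ⟨h𝔫₁prime.ne_top, fun J hJ => ?_⟩
    have h1 : 𝔫 ≤ J.comap (algebraMap D (Localization.Away h')) := by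
      rw [← h𝔫₁comap]
      exact Ideal.comap_mono hJ.le
    have h2 : J.comap (algebraMap D (Localization.Away h')) ≠ 𝔫 := fun heq =>
      hJ.ne' (by rw [← hmapcomap J, heq])
    by_contra hJtop
    have h3 : J.comap (algebraMap D (Localization.Away h')) ≠ ⊤ := by
      intro htop
      apply hJtop
      rw [← hmapcomap J, htop, Ideal.map_top]
    exact h2 (Ideal.IsMaximal.eq_of_le h𝔫max h3 h1).symm
  have hht : (𝔫.map (algebraMap D (Localization.Away h'))).height = 1 := by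
    rw [IsLocalization.height_map_of_disjoint (Submonoid.powers h') 𝔫 hdisj]
    apply le_antisymm
    · have : 𝔫.height ≤ ((1 : ℕ) : ℕ∞) := by
        rw [Ideal.height_le_iff]
        intro q hq hq𝔫
        have : q = ⊥ := by
          by_contra hq0
          exact hq𝔫.ne (hDcov q hq hq0 hq𝔫.le)
        rw [this, Ideal.height_bot]
        exact Nat.cast_pos.mpr one_pos
      simpa using this
    · rw [ENat.one_le_iff_ne_zero, Ne, Ideal.height_eq_zero_iff_eq_bot]
      exact h𝔫0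
  refine ⟨Localization.Away h', inferInstance, inferInstance, inferInstance, inferInstance,
    inferInstance, 𝔫.map (algebraMap D (Localization.Away h')), h𝔫₁max,
    algebraMap D (Localization.Away h') h₀, χ, ?_, hht, ?_, ?_, hPψ.trans hker⟩
  · rw [IsScalarTower.algebraMap_eq R₀ D (Localization.Away h'), ← Ideal.comap_comap, h𝔫₁comap,
      h𝔫m]
  · intro 𝔯 h𝔯
    constructor
    · intro hmem
      have hr : (𝔯.comap (algebraMap D (Localization.Away h'))).IsPrime := Ideal.comap_isPrime _ 𝔯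
      have h1 : h₀ ∈ 𝔯.comap (algebraMap D (Localization.Away h')) := hmem
      have h2 : h' ∉ 𝔯.comap (algebraMap D (Localization.Away h')) := by
        intro hmem'
        have hu : IsUnit (algebraMap D (Localization.Away h') h') :=
          IsLocalization.map_units _ (⟨h', Submonoid.mem_powers h'⟩ : Submonoid.powers h')
        exact h𝔯.ne_top (Ideal.eq_top_of_isUnit_mem _ hmem' hu)
      rw [← hmapcomap 𝔯, hiso _ hr h1 h2]
    · rintro rfl
      exact Ideal.mem_map_of_mem _ hh₀𝔫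
  · rw [hχ, IsScalarTower.algebraMap_eq R₀ D (Localization.Away h')]

end Groth.Agent.H8.Curve
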