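import Mathlib
import Groth.Prelude
import Groth.Agent.Lib.Helper8.Curve.A4

set_option autoImplicit false
universe u

open AlgebraicGeometry CategoryTheory CategoryTheory.Limits IsLocalRing TopologicalSpace

namespace Groth.Agent.H8.Curve

/-- The curve-lifting hypothesis of S7449. -/
def CurveExistence {S X Y : Scheme.{u}} (q : Y ⟶ S) (f : X ⟶ Y) : Prop :=
  ∀ (C : Scheme.{u}) (r : C ⟶ S) [IsIntegral C] [LocallyOfFiniteType r] [QuasiCompact r],
    (∀ x : C, IsIntegrallyClosed (C.presheaf.stalk x)) →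
    ∀ (c : C), IsClosed ({c} : Set C) → ringKrullDim (C.presheaf.stalk c) = 1 →
    ∀ (U : C.Opens), (U : Set C) = {c}ᶜ →
    ∀ (u : (U : Scheme.{u}) ⟶ X) (g : C ⟶ Y), g ≫ q = r → u ≫ f = U.ι ≫ g →
    ∀ (k : Spec (CommRingCat.of (FractionRing (C.presheaf.stalk c))) ⟶ (U : Scheme.{u})),
      k ≫ U.ι = Spec.map (CommRingCat.ofHom (algebraMap (C.presheaf.stalk c)
        (FractionRing (C.presheaf.stalk c)))) ≫ C.fromSpecStalk c →
    ∃ l : Spec (C.presheaf.stalk c) ⟶ X, l ≫ f = C.fromSpecStalk c ≫ g ∧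
      Spec.map (CommRingCat.ofHom (algebraMap (C.presheaf.stalk c)
        (FractionRing (C.presheaf.stalk c)))) ≫ l = k ≫ u

set_option maxHeartbeats 1000000 in
theorem exists_specialization_lift {S X Y : Scheme.{u}} (q : Y ⟶ S) (f : X ⟶ Y)
    [LocallyOfFiniteType q] [LocallyOfFiniteType f] [IsLocallyNoetherian S]
    (H : CurveExistence q f)
    (W₀ : S.Opens) (hW₀ : IsAffineOpen W₀) (hΛ : CAlg.IsNagata Γ(S, W₀))
    (O₁ : Y.Opens) (hO₁ : IsAffineOpen O₁) (hOW : O₁ ≤ q ⁻¹ᵁ W₀)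
    (X₁ : X.Opens) (hX₁ : IsAffineOpen X₁) (hXO : X₁ ≤ f ⁻¹ᵁ O₁)
    (P : PrimeSpectrum Γ(X, X₁)) (m₀ : PrimeSpectrum Γ(Y, O₁)) (hm₀ : m₀.asIdeal.IsMaximal)
    (hle : P.asIdeal.comap (f.appLE O₁ X₁ hXO).hom ≤ m₀.asIdeal) :
    ∃ x' : X, hX₁.fromSpec P ⤳ x' ∧ f x' = hO₁.fromSpec m₀ := by
  classical
  have hfs := IsAffineOpen.SpecMap_appLE_fromSpec f hO₁ hX₁ hXO
  by_cases heq : P.asIdeal.comap (f.appLE O₁ X₁ hXO).hom = m₀.asIdeal
  · refine ⟨hX₁.fromSpec P, specializes_rfl, ?_⟩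
    have h2 : hO₁.fromSpec (Spec.map (f.appLE O₁ X₁ hXO) P) = f (hX₁.fromSpec P) := by
      rw [← Scheme.Hom.comp_apply, ← Scheme.Hom.comp_apply, hfs]
    rw [← h2]
    congr 1
    exact PrimeSpectrum.ext heq
  have hlt : P.asIdeal.comap (f.appLE O₁ X₁ hXO).hom < m₀.asIdeal := lt_of_le_of_ne hle heq
  letI algΛR : Algebra Γ(S, W₀) Γ(Y, O₁) := (q.appLE W₀ O₁ hOW).hom.toAlgebra
  letI algRB : Algebra Γ(Y, O₁) Γ(X, X₁) := (f.appLE O₁ X₁ hXO).hom.toAlgebra
  haveI : Algebra.FiniteType Γ(S, W₀) Γ(Y, O₁) := q.finiteType_appLE hW₀ hO₁ hOW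
  haveI : Algebra.FiniteType Γ(Y, O₁) Γ(X, X₁) := f.finiteType_appLE hO₁ hX₁ hXO
  haveI := P.isPrime
  haveI := hm₀
  obtain ⟨D, _, _, _, _, hDft, 𝔫, h𝔫max, h, χ, h𝔫m, h𝔫ht, hh, hχ, hPχ⟩ :=
    exists_curve_data Γ(S, W₀) Γ(Y, O₁) Γ(X, X₁) hΛ P.asIdeal m₀.asIdeal hlt
  haveI := hDft
  haveI := h𝔫max
  haveI : IsNoetherianRing Γ(S, W₀) := hΛ.1
  haveI : IsNoetherianRing Γ(Y, O₁) := Algebra.FiniteType.isNoetherianRing Γ(S, W₀) _
  haveI : IsNoetherianRing D := Algebra.FiniteType.isNoetherianRing Γ(Y, O₁) D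
  haveI : IsNoetherianRing (CommRingCat.of D) := ‹IsNoetherianRing D›
  let C : Scheme.{u} := Spec (CommRingCat.of D)
  let αR : Γ(Y, O₁) ⟶ CommRingCat.of D := CommRingCat.ofHom (algebraMap Γ(Y, O₁) D)
  let g : C ⟶ Y := Spec.map αR ≫ hO₁.fromSpec
  have hgq : g ≫ q = Spec.map (q.appLE W₀ O₁ hOW ≫ αR) ≫ hW₀.fromSpec := by
    simp only [g, Category.assoc]
    rw [← IsAffineOpen.SpecMap_appLE_fromSpec q hW₀ hO₁ hOW, ← Category.assoc, ← Spec.map_comp]
  haveI : LocallyOfFiniteType (Spec.map (q.appLE W₀ O₁ hOW ≫ αR)) := by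
    rw [HasRingHomProperty.Spec_iff (P := @LocallyOfFiniteType), CommRingCat.hom_comp]
    exact (RingHom.finiteType_algebraMap.mpr hDft).comp
      (RingHom.finiteType_algebraMap.mpr (inferInstance : Algebra.FiniteType Γ(S, W₀) Γ(Y, O₁)))
  haveI : LocallyOfFiniteType (g ≫ q) := by rw [hgq]; infer_instance
  haveI : IsIntegral C := inferInstanceAs (IsIntegral (Spec (CommRingCat.of D)))
  let c : C := (⟨𝔫, h𝔫max.isPrime⟩ : PrimeSpectrum D)
  have hnormal : ∀ x : C, IsIntegrallyClosed (C.presheaf.stalk x) := by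
    intro x
    letI : Algebra D ((Spec (CommRingCat.of D)).presheaf.stalk x) :=
      StructureSheaf.stalkAlgebra (R := D) x
    haveI : IsLocalization.AtPrime ((Spec (CommRingCat.of D)).presheaf.stalk x)
        (x : PrimeSpectrum D).asIdeal := StructureSheaf.IsLocalization.to_stalk (R := D) x
    exact isIntegrallyClosed_of_isLocalization _ (x : PrimeSpectrum D).asIdeal.primeCompl
      (x : PrimeSpectrum D).asIdeal.primeCompl_le_nonZeroDivisors
  have hcclosed : IsClosed ({c} : Set C) :=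
    (PrimeSpectrum.isClosed_singleton_iff_isMaximal (⟨𝔫, h𝔫max.isPrime⟩ : PrimeSpectrum D)).mpr
      h𝔫max
  have hdim : ringKrullDim (C.presheaf.stalk c) = 1 := by
    letI : Algebra D ((Spec (CommRingCat.of D)).presheaf.stalk c) :=
      StructureSheaf.stalkAlgebra (R := D) c
    haveI : IsLocalization.AtPrime ((Spec (CommRingCat.of D)).presheaf.stalk c) 𝔫 :=
      StructureSheaf.IsLocalization.to_stalk (R := D) (⟨𝔫, h𝔫max.isPrime⟩ : PrimeSpectrum D)
    have := IsLocalization.AtPrime.ringKrullDim_eq_height 𝔫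
      ((Spec (CommRingCat.of D)).presheaf.stalk c)
    rw [this, h𝔫ht]
    rfl
  let U : C.Opens := PrimeSpectrum.basicOpen (h : D)
  have hU : (U : Set C) = {c}ᶜ := by
    ext z
    simp only [Set.mem_compl_iff, Set.mem_singleton_iff]
    change h ∉ (z : PrimeSpectrum D).asIdeal ↔ _
    rw [not_iff_not, hh _ (z : PrimeSpectrum D).isPrime]
    constructor
    · intro h1; exact PrimeSpectrum.ext h1
    · intro h1; rw [h1]
  let iso := basicOpenIsoSpecAway (R := CommRingCat.of D) h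
  have hiso : iso.hom ≫ Spec.map (CommRingCat.ofHom (algebraMap D (Localization.Away h))) = U.ι :=
    basicOpenIsoSpecAway_hom_SpecMap (R := CommRingCat.of D) h
  let u : (U : Scheme.{u}) ⟶ X := iso.hom ≫ Spec.map (CommRingCat.ofHom χ) ≫ hX₁.fromSpec
  have hring : f.appLE O₁ X₁ hXO ≫ CommRingCat.ofHom χ =
      αR ≫ CommRingCat.ofHom (algebraMap D (Localization.Away h)) := by
    apply CommRingCat.hom_ext
    exact hχ
  have hug : u ≫ f = U.ι ≫ g := by
    simp only [u, g, Category.assoc]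
    rw [← hfs, ← hiso]
    simp only [Category.assoc]
    rw [← Spec.map_comp_assoc, ← Spec.map_comp_assoc, hring]
  -- the generic point
  haveI : IsDomain (C.presheaf.stalk c) := inferInstance
  letI algSt : Algebra D (C.presheaf.stalk c) :=
    StructureSheaf.stalkAlgebra (R := D) (⟨𝔫, h𝔫max.isPrime⟩ : PrimeSpectrum D)
  haveI locSt : IsLocalization.AtPrime (C.presheaf.stalk c) 𝔫 :=
    StructureSheaf.IsLocalization.to_stalk (R := D) (⟨𝔫, h𝔫max.isPrime⟩ : PrimeSpectrum D)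
  let φK : C.presheaf.stalk c ⟶ CommRingCat.of (FractionRing (C.presheaf.stalk c)) :=
    CommRingCat.ofHom (algebraMap (C.presheaf.stalk c) (FractionRing (C.presheaf.stalk c)))
  let τ : CommRingCat.of D ⟶ C.presheaf.stalk c :=
    CommRingCat.ofHom (algebraMap D (C.presheaf.stalk c))
  have hfromSpec : C.fromSpecStalk c = Spec.map τ :=
    Spec.fromSpecStalk_eq' (CommRingCat.of D) c
  have hinjτ : Function.Injective (algebraMap D (C.presheaf.stalk c)) :=
    IsLocalization.injective (C.presheaf.stalk c) (Ideal.primeCompl_le_nonZeroDivisors 𝔫)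
  have hinjK : Function.Injective (algebraMap (C.presheaf.stalk c)
      (FractionRing (C.presheaf.stalk c))) := IsFractionRing.injective _ _
  have hinjφ : Function.Injective ((τ ≫ φK).hom) := by
    have e : ((τ ≫ φK).hom : D → _) = (algebraMap (C.presheaf.stalk c)
      (FractionRing (C.presheaf.stalk c))) ∘ (algebraMap D (C.presheaf.stalk c)) := rfl
    rw [e]
    exact hinjK.comp hinjτ
  have hh0 : h ≠ 0 := by
    intro h0
    have h1 : (⊥ : Ideal D) = 𝔫 := (hh ⊥ Ideal.isPrime_bot).mp (h0 ▸ Ideal.zero_mem _)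
    rw [← h1, Ideal.height_bot] at h𝔫ht
    exact zero_ne_one h𝔫ht
  have hcomp : Spec.map φK ≫ C.fromSpecStalk c = Spec.map (τ ≫ φK) := by
    rw [hfromSpec, Spec.map_comp]
  have hrange : Set.range (Spec.map φK ≫ C.fromSpecStalk c) ⊆ Set.range U.ι := by
    rw [hcomp, Scheme.Opens.range_ι]
    rintro _ ⟨z, rfl⟩
    change h ∉ ((Spec.map (τ ≫ φK)) z : PrimeSpectrum D).asIdeal
    intro hmem
    have h1 : (τ ≫ φK).hom h ∈ (z : PrimeSpectrum _).asIdeal := hmem
    have h2 : (τ ≫ φK).hom h ≠ 0 := by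
      rw [Ne, ← map_zero (τ ≫ φK).hom]
      exact fun h3 => hh0 (hinjφ h3)
    exact (z : PrimeSpectrum _).isPrime.ne_top
      (Ideal.eq_top_of_isUnit_mem _ h1 (IsUnit.mk0 _ h2))
  let k : Spec (CommRingCat.of (FractionRing (C.presheaf.stalk c))) ⟶ (U : Scheme.{u}) :=
    IsOpenImmersion.lift U.ι (Spec.map φK ≫ C.fromSpecStalk c) hrange
  have hk : k ≫ U.ι = Spec.map φK ≫ C.fromSpecStalk c := IsOpenImmersion.lift_fac _ _ _
  obtain ⟨l, hl1, hl2⟩ := H C (g ≫ q) hnormal c hcclosed hdim U hU u g rfl hug k hk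
  refine ⟨l (closedPoint (C.presheaf.stalk c)), ?_, ?_⟩
  · -- specialization
    let ξ : Spec (CommRingCat.of (FractionRing (C.presheaf.stalk c))) :=
      closedPoint (FractionRing (C.presheaf.stalk c))
    have e1 : (Spec.map φK ≫ l) ξ = (k ≫ u) ξ :=
      congrArg (fun m : Spec (CommRingCat.of (FractionRing (C.presheaf.stalk c))) ⟶ X => m ξ) hl2
    have h1 : l ((Spec.map φK) ξ) ⤳ l (closedPoint (C.presheaf.stalk c)) :=
      (IsLocalRing.specializes_closedPoint _).map l.continuous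
    have h2 : hX₁.fromSpec P ⤳ (k ≫ u) ξ := by
      have : (k ≫ u) ξ = hX₁.fromSpec ((Spec.map (CommRingCat.ofHom χ)) (iso.hom (k ξ))) := by
        simp only [u, Scheme.Hom.comp_apply]
      rw [this]
      let Q : PrimeSpectrum Γ(X, X₁) := (Spec.map (CommRingCat.ofHom χ)) (iso.hom (k ξ))
      have hPQ : P ≤ Q := by
        change P.asIdeal ≤ Ideal.comap χ _
        intro b hb
        rw [Ideal.mem_comap, (RingHom.mem_ker).mp (hPχ hb)]
        exact Ideal.zero_mem _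
      have hsp : P ⤳ Q := (PrimeSpectrum.le_iff_specializes P Q).mp hPQ
      exact hsp.map hX₁.fromSpec.continuous
    rw [← e1, Scheme.Hom.comp_apply] at h2
    exact h2.trans h1
  · rw [← Scheme.Hom.comp_apply, hl1, Scheme.Hom.comp_apply, Scheme.fromSpecStalk_closedPoint]
    simp only [g, Scheme.Hom.comp_apply]
    congr 1
    exact PrimeSpectrum.ext h𝔫m

end Groth.Agent.H8.Curve
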