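import Mathlib
import Groth.Prelude
import Groth.Agent.Lib.Helper8.Curve.B1
import Groth.Agent.Lib.Helper8.QCClosure
import Groth.Agent.Lib.Helper8.UCMain

set_option autoImplicit false
universe u

open AlgebraicGeometry CategoryTheory CategoryTheory.Limits IsLocalRing TopologicalSpace

namespace Groth.Agent.H8.Curve

set_option maxHeartbeats 1000000 in
/-- A quasi-compact morphism satisfying the curve-lifting criterion lifts specializations. -/
theorem specializingMap_of_curveExistence {S X Y : Scheme.{u}} (q : Y ⟶ S) (f : X ⟶ Y)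
    [LocallyOfFiniteType q] [LocallyOfFiniteType f] [IsLocallyNoetherian S] [QuasiCompact f]
    (hS : ∀ W : S.affineOpens, CAlg.IsNagata Γ(S, W))
    (H : CurveExistence q f) : SpecializingMap f := by
  classical
  intro x y hxy
  by_contra hcon
  have hcon' : ∀ x' : X, x ⤳ x' → f x' ≠ y := fun x' h1 h2 => hcon ⟨x', h1, h2⟩
  let IZ := Scheme.IdealSheafData.vanishingIdeal (X := X) ⟨closure {x}, isClosed_closure⟩
  let iZ := IZ.subschemeι
  have hiZ : Set.range iZ = closure {x} := by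
    rw [Scheme.IdealSheafData.range_subschemeι, Scheme.IdealSheafData.coe_support_vanishingIdeal]
    rfl
  let IT := Scheme.IdealSheafData.vanishingIdeal (X := Y) ⟨closure {y}, isClosed_closure⟩
  let iT := IT.subschemeι
  have hiT : Set.range iT = closure {y} := by
    rw [Scheme.IdealSheafData.range_subschemeι, Scheme.IdealSheafData.coe_support_vanishingIdeal]
    rfl
  let g := pullback.fst (iZ ≫ f) iT ≫ (iZ ≫ f)
  have hgr : Set.range g = f '' closure {x} ∩ closure {y} := by
    rw [Scheme.Pullback.range_fst_comp, hiT, Scheme.Hom.comp_base, TopCat.coe_comp,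
      Set.range_comp, hiZ]
  haveI : QuasiCompact g := inferInstance
  have hyF : y ∉ closure (f '' closure {x} ∩ closure {y}) := by
    intro hy
    obtain ⟨w, hw⟩ := QCClosure.exists_specializes_of_mem_closure_range g y
      (by rw [hgr]; exact hy)
    have hgw : g w ∈ f '' closure {x} ∩ closure {y} := by
      rw [← hgr]; exact ⟨w, rfl⟩
    obtain ⟨⟨x', hx', hfx'⟩, hgy⟩ := hgw
    have h1 : y ⤳ g w := specializes_iff_mem_closure.mpr hgy
    have h2 : g w = y := (hw.antisymm h1).eq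
    exact hcon' x' (specializes_iff_mem_closure.mpr hx') (hfx'.trans h2)
  obtain ⟨W₀, hW₀, hqy, -⟩ := Opens.isBasis_iff_nbhd.mp S.isBasis_affineOpens
    (show q y ∈ (⊤ : S.Opens) from trivial)
  let V : Y.Opens := ⟨(closure (f '' closure {x} ∩ closure {y}))ᶜ, isClosed_closure.isOpen_compl⟩
  obtain ⟨O₁, hO₁, hyO₁, hO₁le⟩ := Opens.isBasis_iff_nbhd.mp Y.isBasis_affineOpens
    (show y ∈ q ⁻¹ᵁ W₀ ⊓ V from ⟨hqy, hyF⟩)
  have hOW : O₁ ≤ q ⁻¹ᵁ W₀ := hO₁le.trans inf_le_left
  have hOV : O₁ ≤ V := hO₁le.trans inf_le_right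
  have hfxO : f x ∈ O₁ := hxy.mem_open O₁.2 hyO₁
  obtain ⟨X₁, hX₁, hxX₁, hXO⟩ := Opens.isBasis_iff_nbhd.mp X.isBasis_affineOpens
    (show x ∈ f ⁻¹ᵁ O₁ from hfxO)
  obtain ⟨P, hP⟩ : ∃ P : PrimeSpectrum Γ(X, X₁), hX₁.fromSpec P = x := by
    have : x ∈ Set.range hX₁.fromSpec := by rw [hX₁.range_fromSpec]; exact hxX₁
    exact this
  obtain ⟨𝔭, h𝔭⟩ : ∃ 𝔭 : PrimeSpectrum Γ(Y, O₁), hO₁.fromSpec 𝔭 = y := by
    have : y ∈ Set.range hO₁.fromSpec := by rw [hO₁.range_fromSpec]; exact hyO₁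
    exact this
  have hfs := IsAffineOpen.SpecMap_appLE_fromSpec f hO₁ hX₁ hXO
  have h3 : hO₁.fromSpec (Spec.map (f.appLE O₁ X₁ hXO) P) = f x := by
    rw [← Scheme.Hom.comp_apply, hfs, Scheme.Hom.comp_apply, hP]
  have h4 : (Spec.map (f.appLE O₁ X₁ hXO) P) ⤳ (𝔭 : Spec Γ(Y, O₁)) := by
    rw [← hO₁.fromSpec.isOpenEmbedding.isInducing.specializes_iff, h3, h𝔭]
    exact hxy
  have h5 : P.asIdeal.comap (f.appLE O₁ X₁ hXO).hom ≤ 𝔭.asIdeal := by
    have h4' : (PrimeSpectrum.comap (f.appLE O₁ X₁ hXO).hom P) ⤳ 𝔭 := h4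
    exact (PrimeSpectrum.le_iff_specializes _ _).mpr h4'
  obtain ⟨m, hm, hle⟩ := Ideal.exists_le_maximal 𝔭.asIdeal 𝔭.isPrime.ne_top
  let m₀ : PrimeSpectrum Γ(Y, O₁) := ⟨m, hm.isPrime⟩
  have h6 : y ⤳ hO₁.fromSpec m₀ := by
    rw [← h𝔭]
    have hsp : (𝔭 : PrimeSpectrum Γ(Y, O₁)) ⤳ m₀ :=
      (PrimeSpectrum.le_iff_specializes 𝔭 m₀).mp hle
    exact hsp.map hO₁.fromSpec.continuous
  obtain ⟨x', hx'1, hx'2⟩ := exists_specialization_lift q f H W₀ hW₀ (hS ⟨W₀, hW₀⟩) O₁ hO₁ hOW
    X₁ hX₁ hXO P m₀ hm (h5.trans hle)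
  rw [hP] at hx'1
  have h7 : hO₁.fromSpec m₀ ∈ closure (f '' closure {x} ∩ closure {y}) :=
    subset_closure ⟨⟨x', specializes_iff_mem_closure.mp hx'1, hx'2⟩,
      specializes_iff_mem_closure.mp h6⟩
  have h8 : hO₁.fromSpec m₀ ∈ (O₁ : Set Y) := by
    rw [← hO₁.range_fromSpec]; exact ⟨m₀, rfl⟩
  exact hOV h8 h7

/-- The curve-lifting criterion is stable under base change. -/
lemma CurveExistence.snd {S X Y Y' : Scheme.{u}} {q : Y ⟶ S} {f : X ⟶ Y}
    (H : CurveExistence q f) (b : Y' ⟶ Y) : CurveExistence (b ≫ q) (pullback.snd f b) := by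
  intro C r _ _ _ hnorm c hc hdim U hU u g hgr hug k hk
  obtain ⟨l, hl1, hl2⟩ := H C r hnorm c hc hdim U hU (u ≫ pullback.fst f b) (g ≫ b)
    (by rw [Category.assoc, hgr])
    (by
      calc (u ≫ pullback.fst f b) ≫ f = u ≫ pullback.snd f b ≫ b := by
            rw [Category.assoc, pullback.condition]
        _ = (U.ι ≫ g) ≫ b := by rw [← hug, Category.assoc]
        _ = U.ι ≫ g ≫ b := Category.assoc _ _ _) k hk
  refine ⟨pullback.lift l (C.fromSpecStalk c ≫ g) (by rw [hl1, Category.assoc]),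
    pullback.lift_snd _ _ _, ?_⟩
  apply pullback.hom_ext
  · rw [Category.assoc, pullback.lift_fst, hl2, Category.assoc]
  · calc (Spec.map _ ≫ pullback.lift l (C.fromSpecStalk c ≫ g) _) ≫ pullback.snd f b
        = Spec.map _ ≫ (C.fromSpecStalk c ≫ g) := by rw [Category.assoc, pullback.lift_snd]
      _ = (k ≫ U.ι) ≫ g := by rw [hk, Category.assoc]
      _ = k ≫ (u ≫ pullback.snd f b) := by rw [hug, Category.assoc]
      _ = (k ≫ u) ≫ pullback.snd f b := by rw [Category.assoc]

/-- Curve-lifting criterion ⇒ universally closed. -/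
theorem universallyClosed_of_curveExistence {S X Y : Scheme.{u}} (q : Y ⟶ S) (f : X ⟶ Y)
    [LocallyOfFiniteType q] [LocallyOfFiniteType f] [QuasiCompact f]
    (hS : ∀ W : S.affineOpens, CAlg.IsNagata Γ(S, W))
    (H : CurveExistence q f) : UniversallyClosed f := by
  haveI : IsLocallyNoetherian S := ⟨fun W => (hS W).1⟩
  apply UC.universallyClosed_of_affineSpace
  intro n
  haveI hqc : QuasiCompact (pullback.snd f (𝔸(ULift.{u} (Fin n); Y) ↘ Y)) :=
    MorphismProperty.pullback_snd _ _ inferInstance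
  haveI hft : LocallyOfFiniteType (pullback.snd f (𝔸(ULift.{u} (Fin n); Y) ↘ Y)) :=
    MorphismProperty.pullback_snd _ _ inferInstance
  rw [isClosedMap_iff_specializingMap]
  exact specializingMap_of_curveExistence ((𝔸(ULift.{u} (Fin n); Y) ↘ Y) ≫ q) _ hS (H.snd _)

lemma valuationRing_of_dim_one (R : Type u) [CommRing R] [IsDomain R] [IsLocalRing R]
    [IsNoetherianRing R] [IsIntegrallyClosed R] (hdim : ringKrullDim R = 1) :
    ValuationRing R := by
  haveI : Ring.KrullDimLE 1 R := Ring.krullDimLE_iff.mpr (by rw [hdim, Nat.cast_one])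
  have h : ValuationRing R ↔ (IsIntegrallyClosed R ∧
      ∀ P : Ideal R, P ≠ ⊥ → P.IsPrime → P = maximalIdeal R) :=
    (tfae_of_isNoetherianRing_of_isLocalRing_of_isDomain R).out 1 3
  refine h.mpr ⟨inferInstance, fun P hP hPp => ?_⟩
  exact IsLocalRing.eq_maximalIdeal (hPp.isMaximal_of_ne_bot hP)

lemma exists_lift_of_existence {X Y : Scheme.{u}} (f : X ⟶ Y)
    (hE : ValuativeCriterion.Existence f)
    (A : CommRingCat.{u}) [IsDomain A] [ValuationRing A]
    (i₁ : Spec (CommRingCat.of (FractionRing A)) ⟶ X) (i₂ : Spec A ⟶ Y)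
    (h : i₁ ≫ f = Spec.map (CommRingCat.ofHom (algebraMap A (FractionRing A))) ≫ i₂) :
    ∃ l : Spec A ⟶ X, l ≫ f = i₂ ∧
      Spec.map (CommRingCat.ofHom (algebraMap A (FractionRing A))) ≫ l = i₁ := by
  let Sq : ValuativeCommSq f :=
    { R := A
      K := FractionRing A
      i₁ := i₁
      i₂ := i₂
      commSq := ⟨h⟩ }
  obtain ⟨l, hl1, hl2⟩ := (hE Sq).exists_lift
  exact ⟨l, hl2, hl1⟩

lemma eq_of_uniqueness {X Y : Scheme.{u}} (f : X ⟶ Y)
    (hU : ValuativeCriterion.Uniqueness f)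
    (A : CommRingCat.{u}) [IsDomain A] [ValuationRing A]
    (l l' : Spec A ⟶ X) (h1 : l' ≫ f = l ≫ f)
    (h2 : Spec.map (CommRingCat.ofHom (algebraMap A (FractionRing A))) ≫ l' =
      Spec.map (CommRingCat.ofHom (algebraMap A (FractionRing A))) ≫ l) : l = l' := by
  let Sq : ValuativeCommSq f :=
    { R := A
      K := FractionRing A
      i₁ := Spec.map (CommRingCat.ofHom (algebraMap A (FractionRing A))) ≫ l
      i₂ := l ≫ f
      commSq := ⟨by rw [Category.assoc]⟩ }
  have hs : Subsingleton Sq.commSq.LiftStruct := hU Sq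
  let l₁ : Sq.commSq.LiftStruct := ⟨l, rfl, rfl⟩
  let l₂ : Sq.commSq.LiftStruct := ⟨l', h2, h1⟩
  exact congrArg CommSq.LiftStruct.l (Subsingleton.elim l₁ l₂)

/-- Universally closed ⇒ curve-lifting criterion. -/
theorem curveExistence_of_universallyClosed {S X Y : Scheme.{u}} [IsLocallyNoetherian S]
    (q : Y ⟶ S) (f : X ⟶ Y) [UniversallyClosed f] : CurveExistence q f := by
  intro C r _ _ _ hnorm c hc hdim U hU u g hgr hug k hk
  haveI : IsLocallyNoetherian C := LocallyOfFiniteType.isLocallyNoetherian r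
  haveI := hnorm c
  haveI : ValuationRing (C.presheaf.stalk c) := valuationRing_of_dim_one _ hdim
  have hE : ValuativeCriterion.Existence f := by
    have := UniversallyClosed.eq_valuativeCriterion
    have h2 : (ValuativeCriterion.Existence ⊓ @QuasiCompact) f := this ▸ ‹UniversallyClosed f›
    exact h2.1
  have hsq : (k ≫ u) ≫ f = Spec.map (CommRingCat.ofHom (algebraMap (C.presheaf.stalk c)
      (FractionRing (C.presheaf.stalk c)))) ≫ C.fromSpecStalk c ≫ g := by
    calc (k ≫ u) ≫ f = k ≫ U.ι ≫ g := by rw [Category.assoc, hug]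
      _ = (k ≫ U.ι) ≫ g := (Category.assoc _ _ _).symm
      _ = _ := by rw [hk, Category.assoc]
  exact exists_lift_of_existence f hE (C.presheaf.stalk c) (k ≫ u) (C.fromSpecStalk c ≫ g) hsq

theorem main_S7449 (S : Scheme.{u}) (hS : ∀ W : S.affineOpens, CAlg.IsNagata Γ(S, W))
    {X Y : Scheme.{u}} (p : X ⟶ S) (q : Y ⟶ S) [LocallyOfFiniteType p] [LocallyOfFiniteType q]
    (f : X ⟶ Y) (hf : f ≫ q = p) [QuasiCompact f] :
    UniversallyClosed f ↔ CurveExistence q f := by
  haveI : IsLocallyNoetherian S := ⟨fun W => (hS W).1⟩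
  haveI : LocallyOfFiniteType (f ≫ q) := hf ▸ ‹LocallyOfFiniteType p›
  haveI : LocallyOfFiniteType f := locallyOfFiniteType_of_comp f q
  constructor
  · intro h; exact curveExistence_of_universallyClosed q f
  · exact universallyClosed_of_curveExistence q f hS

/-- The curve-uniqueness hypothesis of S7450. -/
def CurveUniqueness {S X Y : Scheme.{u}} (q : Y ⟶ S) (f : X ⟶ Y) : Prop :=
  ∀ (C : Scheme.{u}) (r : C ⟶ S) [IsIntegral C] [LocallyOfFiniteType r] [QuasiCompact r],
    (∀ x : C, IsIntegrallyClosed (C.presheaf.stalk x)) →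
    ∀ (c : C), IsClosed ({c} : Set C) → ringKrullDim (C.presheaf.stalk c) = 1 →
    ∀ (U : C.Opens), (U : Set C) = {c}ᶜ →
    ∀ (u : (U : Scheme.{u}) ⟶ X) (g : C ⟶ Y), g ≫ q = r → u ≫ f = U.ι ≫ g →
    ∀ (k : Spec (CommRingCat.of (FractionRing (C.presheaf.stalk c))) ⟶ (U : Scheme.{u})),
      k ≫ U.ι = Spec.map (CommRingCat.ofHom (algebraMap (C.presheaf.stalk c)
        (FractionRing (C.presheaf.stalk c)))) ≫ C.fromSpecStalk c →
    ∀ l l' : Spec (C.presheaf.stalk c) ⟶ X,
      l ≫ f = C.fromSpecStalk c ≫ g →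
      Spec.map (CommRingCat.ofHom (algebraMap (C.presheaf.stalk c)
        (FractionRing (C.presheaf.stalk c)))) ≫ l = k ≫ u →
      l' ≫ f = C.fromSpecStalk c ≫ g →
      Spec.map (CommRingCat.ofHom (algebraMap (C.presheaf.stalk c)
        (FractionRing (C.presheaf.stalk c)))) ≫ l' = k ≫ u → l = l'

lemma curveExistence_diagonal {S X Y : Scheme.{u}} (q : Y ⟶ S) (f : X ⟶ Y)
    (H : CurveUniqueness q f) :
    CurveExistence (pullback.fst f f ≫ f ≫ q) (pullback.diagonal f) := by
  intro C r _ _ _ hnorm c hc hdim U hU u g hgr hug k hk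
  have hkg : ∀ {Z : Scheme.{u}} (t : pullback f f ⟶ Z),
      Spec.map (CommRingCat.ofHom (algebraMap (C.presheaf.stalk c)
        (FractionRing (C.presheaf.stalk c)))) ≫ (C.fromSpecStalk c ≫ g) ≫ t =
        k ≫ u ≫ pullback.diagonal f ≫ t := by
    intro Z t
    calc _ = (k ≫ U.ι) ≫ g ≫ t := by rw [hk]; simp only [Category.assoc]
      _ = k ≫ (U.ι ≫ g) ≫ t := by simp only [Category.assoc]
      _ = _ := by rw [← hug]; simp only [Category.assoc]
  have hkfst : Spec.map (CommRingCat.ofHom (algebraMap (C.presheaf.stalk c)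
        (FractionRing (C.presheaf.stalk c)))) ≫ (C.fromSpecStalk c ≫ g) ≫ pullback.fst f f =
        k ≫ u := (hkg _).trans (by rw [pullback.diagonal_fst, Category.comp_id])
  have hksnd : Spec.map (CommRingCat.ofHom (algebraMap (C.presheaf.stalk c)
        (FractionRing (C.presheaf.stalk c)))) ≫ (C.fromSpecStalk c ≫ g) ≫ pullback.snd f f =
        k ≫ u := (hkg _).trans (by rw [pullback.diagonal_snd, Category.comp_id])
  have h12 : (C.fromSpecStalk c ≫ g) ≫ pullback.fst f f =
      (C.fromSpecStalk c ≫ g) ≫ pullback.snd f f := by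
    refine H C r hnorm c hc hdim U hU u (g ≫ pullback.fst f f ≫ f) ?_ ?_ k hk _ _ ?_ hkfst ?_ hksnd
    · rw [← hgr]; simp only [Category.assoc]
    · calc u ≫ f = u ≫ (pullback.diagonal f ≫ pullback.fst f f) ≫ f := by
            rw [pullback.diagonal_fst, Category.id_comp]
        _ = (u ≫ pullback.diagonal f) ≫ pullback.fst f f ≫ f := by simp only [Category.assoc]
        _ = (U.ι ≫ g) ≫ pullback.fst f f ≫ f := by rw [hug]
        _ = U.ι ≫ g ≫ pullback.fst f f ≫ f := by simp only [Category.assoc]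
    · simp only [Category.assoc]
    · simp only [Category.assoc]
      rw [pullback.condition]
  refine ⟨(C.fromSpecStalk c ≫ g) ≫ pullback.fst f f, ?_, hkfst⟩
  apply pullback.hom_ext
  · rw [Category.assoc, pullback.diagonal_fst, Category.comp_id]
  · rw [Category.assoc, pullback.diagonal_snd, Category.comp_id, h12]

/-- Curve-uniqueness criterion ⇒ separated. -/
theorem isSeparated_of_curveUniqueness {S X Y : Scheme.{u}} (q : Y ⟶ S) (f : X ⟶ Y)
    [LocallyOfFiniteType q] [LocallyOfFiniteType f]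
    (hS : ∀ W : S.affineOpens, CAlg.IsNagata Γ(S, W))
    (H : CurveUniqueness q f) : IsSeparated f := by
  haveI : IsLocallyNoetherian S := ⟨fun W => (hS W).1⟩
  haveI hY : IsLocallyNoetherian Y := LocallyOfFiniteType.isLocallyNoetherian q
  haveI hX : IsLocallyNoetherian X := LocallyOfFiniteType.isLocallyNoetherian f
  haveI hW : IsLocallyNoetherian (pullback f f) :=
    LocallyOfFiniteType.isLocallyNoetherian (pullback.fst f f)
  haveI : LocallyOfFiniteType (pullback.diagonal f) := by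
    haveI : LocallyOfFiniteType (pullback.diagonal f ≫ pullback.fst f f) := by
      rw [pullback.diagonal_fst]; infer_instance
    exact locallyOfFiniteType_of_comp (pullback.diagonal f) (pullback.fst f f)
  constructor
  refine IsClosedImmersion.of_isPreimmersion _ (IsClosedMap.isClosed_range ?_)
  rw [isClosedMap_iff_specializingMap]
  exact specializingMap_of_curveExistence (pullback.fst f f ≫ f ≫ q) (pullback.diagonal f) hS
    (curveExistence_diagonal q f H)

/-- Separated ⇒ curve-uniqueness criterion. -/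
theorem curveUniqueness_of_isSeparated {S X Y : Scheme.{u}} [IsLocallyNoetherian S]
    (q : Y ⟶ S) (f : X ⟶ Y) [IsSeparated f] : CurveUniqueness q f := by
  intro C r _ _ _ hnorm c hc hdim U hU u g hgr hug k hk l l' h1 h2 h1' h2'
  haveI : IsLocallyNoetherian C := LocallyOfFiniteType.isLocallyNoetherian r
  haveI := hnorm c
  haveI : ValuationRing (C.presheaf.stalk c) := valuationRing_of_dim_one _ hdim
  have hu := IsSeparated.valuativeCriterion f
  exact eq_of_uniqueness f hu (C.presheaf.stalk c) l l' (h1'.trans h1.symm) (h2'.trans h2.symm)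

theorem main_S7450 (S : Scheme.{u}) (hS : ∀ W : S.affineOpens, CAlg.IsNagata Γ(S, W))
    {X Y : Scheme.{u}} (p : X ⟶ S) (q : Y ⟶ S) [LocallyOfFiniteType p] [LocallyOfFiniteType q]
    (f : X ⟶ Y) (hf : f ≫ q = p) :
    IsSeparated f ↔ CurveUniqueness q f := by
  haveI : IsLocallyNoetherian S := ⟨fun W => (hS W).1⟩
  haveI : LocallyOfFiniteType (f ≫ q) := hf ▸ ‹LocallyOfFiniteType p›
  haveI : LocallyOfFiniteType f := locallyOfFiniteType_of_comp f q
  constructor
  · intro h; exact curveUniqueness_of_isSeparated q f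
  · exact isSeparated_of_curveUniqueness q f hS

end Groth.Agent.H8.Curve
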