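import Mathlib
import Groth.Prelude
import Groth.Agent.Lib.Helper8.Curve.B2
import Groth.Agent.Lib.Helper8.Japanese.QE4

set_option autoImplicit false
universe u

open AlgebraicGeometry CategoryTheory CategoryTheory.Limits IsLocalRing TopologicalSpace

namespace Groth.Agent.H8.Curve

lemma isDVR_of_dim_one (R : Type u) [CommRing R] [IsDomain R] [IsLocalRing R]
    [IsNoetherianRing R] [IsIntegrallyClosed R] (hdim : ringKrullDim R = 1) :
    IsDiscreteValuationRing R := by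
  haveI := valuationRing_of_dim_one R hdim
  have hnf : ¬ IsField R := by
    intro hf
    have h0 := ringKrullDim_eq_zero_of_isField hf
    rw [hdim] at h0
    exact one_ne_zero h0
  have h : IsDiscreteValuationRing R ↔ ValuationRing R :=
    (IsDiscreteValuationRing.TFAE R hnf).out 0 1
  exact h.mpr inferInstance

/-- The local ring of a scheme locally of finite type over `S` is essentially of finite type over
an affine open of `S`. -/
lemma exists_essFT_stalk {S C : Scheme.{u}} (r : C ⟶ S) [LocallyOfFiniteType r] (c : C) :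
    ∃ (U : S.affineOpens) (φ : Γ(S, U.1) ⟶ C.presheaf.stalk c),
      Spec.map φ ≫ U.2.fromSpec = C.fromSpecStalk c ≫ r ∧ φ.hom.EssFiniteType := by
  obtain ⟨W₀, hW₀, hrc, -⟩ := Opens.isBasis_iff_nbhd.mp S.isBasis_affineOpens
    (show r c ∈ (⊤ : S.Opens) from trivial)
  obtain ⟨V, hV, hcV, hVW⟩ := Opens.isBasis_iff_nbhd.mp C.isBasis_affineOpens
    (show c ∈ r ⁻¹ᵁ W₀ from hrc)
  refine ⟨⟨W₀, hW₀⟩, r.appLE W₀ V hVW ≫ C.presheaf.germ V c hcV, ?_, ?_⟩
  · rw [← hV.fromSpecStalk_eq_fromSpecStalk hcV, IsAffineOpen.fromSpecStalk, Spec.map_comp,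
      Category.assoc, Category.assoc, IsAffineOpen.SpecMap_appLE_fromSpec]
  · rw [CommRingCat.hom_comp]
    refine RingHom.EssFiniteType.comp
      (RingHom.FiniteType.essFiniteType (r.finiteType_appLE hW₀ hV hVW)) ?_
    letI := C.presheaf.algebra_section_stalk ⟨c, hcV⟩
    haveI := hV.isLocalization_stalk ⟨c, hcV⟩
    have e : (C.presheaf.germ V c hcV).hom = algebraMap Γ(C, V) (C.presheaf.stalk c) := rfl
    rw [e, RingHom.essFiniteType_algebraMap]
    exact Algebra.EssFiniteType.of_isLocalization _ (hV.primeIdealOf ⟨c, hcV⟩).asIdeal.primeCompl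

lemma exists_lift_of_essFT {S X Y : Scheme.{u}} (f : X ⟶ Y) (g : Y ⟶ S)
    (H : ∀ sq : ValuativeCommSq f, IsDiscreteValuationRing sq.R →
      (∃ (U : S.affineOpens) (φ : Γ(S, U.1) ⟶ CommRingCat.of sq.R),
        Spec.map φ ≫ U.2.fromSpec = sq.i₂ ≫ g ∧ φ.hom.EssFiniteType) → sq.commSq.HasLift)
    (A : CommRingCat.{u}) [IsDomain A] [IsDiscreteValuationRing A]
    (i₁ : Spec (CommRingCat.of (FractionRing A)) ⟶ X) (i₂ : Spec A ⟶ Y)
    (h : i₁ ≫ f = Spec.map (CommRingCat.ofHom (algebraMap A (FractionRing A))) ≫ i₂)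
    (U : S.affineOpens) (φ : Γ(S, U.1) ⟶ A) (hφ : Spec.map φ ≫ U.2.fromSpec = i₂ ≫ g)
    (hφe : φ.hom.EssFiniteType) :
    ∃ l : Spec A ⟶ X, l ≫ f = i₂ ∧
      Spec.map (CommRingCat.ofHom (algebraMap A (FractionRing A))) ≫ l = i₁ := by
  let Sq : ValuativeCommSq f :=
    { R := A
      K := FractionRing A
      i₁ := i₁
      i₂ := i₂
      commSq := ⟨h⟩ }
  have hl : Sq.commSq.HasLift := H Sq ‹IsDiscreteValuationRing A› ⟨U, φ, hφ, hφe⟩
  obtain ⟨l, hl1, hl2⟩ := hl.exists_lift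
  exact ⟨l, hl2, hl1⟩

lemma eq_of_essFT_uniqueness {S X Y : Scheme.{u}} (f : X ⟶ Y) (g : Y ⟶ S)
    (H : ∀ sq : ValuativeCommSq f, IsDiscreteValuationRing sq.R →
      (∃ (U : S.affineOpens) (φ : Γ(S, U.1) ⟶ CommRingCat.of sq.R),
        Spec.map φ ≫ U.2.fromSpec = sq.i₂ ≫ g ∧ φ.hom.EssFiniteType) →
      Subsingleton sq.commSq.LiftStruct)
    (A : CommRingCat.{u}) [IsDomain A] [IsDiscreteValuationRing A]
    (l l' : Spec A ⟶ X) (h1 : l' ≫ f = l ≫ f)
    (h2 : Spec.map (CommRingCat.ofHom (algebraMap A (FractionRing A))) ≫ l' =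
      Spec.map (CommRingCat.ofHom (algebraMap A (FractionRing A))) ≫ l)
    (U : S.affineOpens) (φ : Γ(S, U.1) ⟶ A) (hφ : Spec.map φ ≫ U.2.fromSpec = (l ≫ f) ≫ g)
    (hφe : φ.hom.EssFiniteType) : l = l' := by
  let Sq : ValuativeCommSq f :=
    { R := A
      K := FractionRing A
      i₁ := Spec.map (CommRingCat.ofHom (algebraMap A (FractionRing A))) ≫ l
      i₂ := l ≫ f
      commSq := ⟨by rw [Category.assoc]⟩ }
  have hs : Subsingleton Sq.commSq.LiftStruct :=
    H Sq ‹IsDiscreteValuationRing A› ⟨U, φ, hφ, hφe⟩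
  let l₁ : Sq.commSq.LiftStruct := ⟨l, rfl, rfl⟩
  let l₂ : Sq.commSq.LiftStruct := ⟨l', h2, h1⟩
  exact congrArg CommSq.LiftStruct.l (Subsingleton.elim l₁ l₂)

theorem curveExistence_of_essFT {S X Y : Scheme.{u}} [IsLocallyNoetherian S] (f : X ⟶ Y)
    (g : Y ⟶ S)
    (H : ∀ sq : ValuativeCommSq f, IsDiscreteValuationRing sq.R →
      (∃ (U : S.affineOpens) (φ : Γ(S, U.1) ⟶ CommRingCat.of sq.R),
        Spec.map φ ≫ U.2.fromSpec = sq.i₂ ≫ g ∧ φ.hom.EssFiniteType) → sq.commSq.HasLift) :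
    CurveExistence g f := by
  intro C r _ _ _ hnorm c hc hdim U hU u gC hgr hug k hk
  haveI : IsLocallyNoetherian C := LocallyOfFiniteType.isLocallyNoetherian r
  haveI := hnorm c
  haveI : IsDiscreteValuationRing (C.presheaf.stalk c) := isDVR_of_dim_one _ hdim
  have hsq : (k ≫ u) ≫ f = Spec.map (CommRingCat.ofHom (algebraMap (C.presheaf.stalk c)
      (FractionRing (C.presheaf.stalk c)))) ≫ C.fromSpecStalk c ≫ gC := by
    calc (k ≫ u) ≫ f = k ≫ U.ι ≫ gC := by rw [Category.assoc, hug]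
      _ = (k ≫ U.ι) ≫ gC := (Category.assoc _ _ _).symm
      _ = _ := by rw [hk, Category.assoc]
  obtain ⟨W, φ, hφ, hφe⟩ := exists_essFT_stalk r c
  exact exists_lift_of_essFT f g H (C.presheaf.stalk c) (k ≫ u) (C.fromSpecStalk c ≫ gC) hsq
    W φ (by rw [hφ, Category.assoc, hgr]) hφe

theorem curveUniqueness_of_essFT {S X Y : Scheme.{u}} [IsLocallyNoetherian S] (f : X ⟶ Y)
    (g : Y ⟶ S)
    (H : ∀ sq : ValuativeCommSq f, IsDiscreteValuationRing sq.R →
      (∃ (U : S.affineOpens) (φ : Γ(S, U.1) ⟶ CommRingCat.of sq.R),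
        Spec.map φ ≫ U.2.fromSpec = sq.i₂ ≫ g ∧ φ.hom.EssFiniteType) →
      Subsingleton sq.commSq.LiftStruct) :
    CurveUniqueness g f := by
  intro C r _ _ _ hnorm c hc hdim U hU u gC hgr hug k hk l l' h1 h2 h1' h2'
  haveI : IsLocallyNoetherian C := LocallyOfFiniteType.isLocallyNoetherian r
  haveI := hnorm c
  haveI : IsDiscreteValuationRing (C.presheaf.stalk c) := isDVR_of_dim_one _ hdim
  obtain ⟨W, φ, hφ, hφe⟩ := exists_essFT_stalk r c
  exact eq_of_essFT_uniqueness f g H (C.presheaf.stalk c) l l' (h1'.trans h1.symm)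
    (h2'.trans h2.symm) W φ (by rw [hφ, h1, Category.assoc, hgr]) hφe

theorem main_S14120 (S : Scheme.{u})
    (hS : ∀ U : S.affineOpens, EGA4.IsExcellent Γ(S, U.1))
    {X Y : Scheme.{u}} (f : X ⟶ Y) (g : Y ⟶ S)
    [QuasiCompact f] [LocallyOfFiniteType f] [LocallyOfFiniteType g] :
    (∀ sq : ValuativeCommSq f, IsDiscreteValuationRing sq.R → sq.commSq.HasLift) ↔
    (∀ sq : ValuativeCommSq f, IsDiscreteValuationRing sq.R →
      (∃ (U : S.affineOpens) (φ : Γ(S, U.1) ⟶ CommRingCat.of sq.R),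
        Spec.map φ ≫ U.2.fromSpec = sq.i₂ ≫ g ∧ φ.hom.EssFiniteType) →
      sq.commSq.HasLift) := by
  constructor
  · intro h sq hsq _
    exact h sq hsq
  · intro H sq _
    have hN : ∀ W : S.affineOpens, CAlg.IsNagata Γ(S, W) := fun W =>
      Jap.QE.isNagata_of_isQuasiExcellent _ ⟨(hS W).1, (hS W).2.2.1, (hS W).2.2.2⟩
    haveI : IsLocallyNoetherian S := ⟨fun W => (hN W).1⟩
    haveI : UniversallyClosed f :=
      universallyClosed_of_curveExistence g f hN (curveExistence_of_essFT f g H)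
    have hE : ValuativeCriterion.Existence f := by
      have := UniversallyClosed.eq_valuativeCriterion
      have h2 : (ValuativeCriterion.Existence ⊓ @QuasiCompact) f := this ▸ ‹UniversallyClosed f›
      exact h2.1
    exact hE sq

theorem main_S14121 (S : Scheme.{u})
    (hS : ∀ U : S.affineOpens, EGA4.IsExcellent Γ(S, U.1))
    {X Y : Scheme.{u}} (f : X ⟶ Y) (g : Y ⟶ S)
    [QuasiCompact f] [LocallyOfFiniteType f] [LocallyOfFiniteType g] :
    (∀ sq : ValuativeCommSq f, IsDiscreteValuationRing sq.R →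
      Subsingleton sq.commSq.LiftStruct) ↔
    (∀ sq : ValuativeCommSq f, IsDiscreteValuationRing sq.R →
      (∃ (U : S.affineOpens) (φ : Γ(S, U.1) ⟶ CommRingCat.of sq.R),
        Spec.map φ ≫ U.2.fromSpec = sq.i₂ ≫ g ∧ φ.hom.EssFiniteType) →
      Subsingleton sq.commSq.LiftStruct) := by
  constructor
  · intro h sq hsq _
    exact h sq hsq
  · intro H sq _
    have hN : ∀ W : S.affineOpens, CAlg.IsNagata Γ(S, W) := fun W =>
      Jap.QE.isNagata_of_isQuasiExcellent _ ⟨(hS W).1, (hS W).2.2.1, (hS W).2.2.2⟩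
    haveI : IsLocallyNoetherian S := ⟨fun W => (hN W).1⟩
    haveI : IsSeparated f :=
      isSeparated_of_curveUniqueness g f hN (curveUniqueness_of_essFT f g H)
    exact IsSeparated.valuativeCriterion f sq

end Groth.Agent.H8.Curve
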